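import Cfsg.Agent.UGT.Paired.Twin
import Cfsg.Agent.UGT.ThE.Fix

/-!
# Case (g): `x ∉ X`, commuting conjugates of `L` exist, no bad element normalizes a second commuting member

`Out Λ B Y X`: the hypotheses. `Λ` is a class of simple subgroups `L ≅ L₂(q)`, `B x L`: `x` is bad for `L` (one `L`
for each `x`), `X` a normal subgroup containing the members of `Λ` and all involutions of `C(L) ∩ C(x)`, `x ∉ X`.

* `Out.cls`: the involutions of `C(x) ∩ X` are `t`'s and `s t`'s.
* `Out.bad_xs`: `B (x s) L`, `B (x s t) L`.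
-/

set_option autoImplicit false

open Subgroup
open Cfsg.Agent.SignalizersComponents.IntrinsicBasic
open Cfsg.Agent.UGT.ThE.Base
open Cfsg.Agent.UGT.Paired.Basic

namespace Cfsg.Agent.UGT.CaseG

variable {G : Type*} [Group G]

/-- The fourth alternative of `cens`: `f ∈ {f₁, f₂, f₁ f₂}` acts on `L` as an involution `u ≠ s` commuting with `s`
and `r ∈ C_L(s u)`, of order not dividing `8`, is inverted by `s` and `u`. -/
structure Rot (L : Subgroup G) (s f : G) : Prop where
  ex : ∃ u ∈ L, u * u = 1 ∧ f * u ∈ centralizer (L : Set G) ∧ u * s = s * u ∧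
    ∃ r ∈ L, r * (s * u) = s * u * r ∧ s * r * s⁻¹ = r⁻¹ ∧ u * r * u⁻¹ = r⁻¹ ∧ r ^ 8 ≠ 1

/-- The hypotheses of case (g). -/
structure Out (Λ : Set (Subgroup G)) (B : G → Subgroup G → Prop) (Y : Subgroup G → G → Prop)
    (X : Subgroup G) : Prop extends Hyp Λ B Y where
  XN : X.Normal
  xX : ∀ {x : G} {L : Subgroup G}, B x L → x ∉ X
  LX : ∀ L ∈ Λ, L ≤ X
  tX : ∀ {x t : G} {L : Subgroup G}, B x L → IsT L x t → t ∈ X
  cov : ∀ {x : G} {L : Subgroup G}, B x L → ∀ g, g ∈ X ∨ g * x ∈ X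
  ex : ∀ L ∈ Λ, ∃ x, B x L
  uniq : ∀ {x : G} {L N : Subgroup G}, B x L → B x N → L = N
  hx : ∀ {x : G} {L : Subgroup G}, B x L → ∀ c, c * x = x * c → c ∈ normalizer (L : Set G)
  four : ∀ {x : G} {L : Subgroup G}, B x L → ∃ t u, IsT L x t ∧ IsT L x u ∧ t ≠ u ∧ t * u = u * t
  /-- every `t` commutes with another one -/
  rk : ∀ {x t : G} {L : Subgroup G}, B x L → IsT L x t → ∃ u, IsT L x u ∧ u ≠ t ∧ u * t = t * u
  /-- `x` does not normalize a second member commuting with `L` -/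
  np : ∀ {x : G} {L N : Subgroup G}, B x L → N ∈ Λ → Sim N L → x ∈ normalizer (N : Set G) → N = L
  -- facts on `L₂(q)`
  comm : ∀ {x : G} {L : Subgroup G}, B x L → ∀ s s', IsS L x s → IsS L x s' → s * s' = s' * s → s = s'
  inv : ∀ {x : G} {L : Subgroup G}, B x L → ∀ e ∈ normalizer (L : Set G), e * e = 1 →
    e ∈ centralizer (L : Set G) ∨ (∃ s ∈ L, s * s = 1 ∧ e * s ∈ centralizer (L : Set G)) ∨
      (∃ l ∈ L, l * e * l⁻¹ * x ∈ centralizer (L : Set G)) ∨ ∃ v A C, Fld L x e v A C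
  cens : ∀ L ∈ Λ, ∀ s ∈ L, Inv s → ∀ f₁ ∈ normalizer (L : Set G), ∀ f₂ ∈ normalizer (L : Set G),
    f₁ * f₁ = 1 → f₂ * f₂ = 1 → f₁ * f₂ = f₂ * f₁ → f₁ * s = s * f₁ → f₂ * s = s * f₂ →
    f₁ ∉ centralizer (L : Set G) → f₂ ∉ centralizer (L : Set G) → f₁ * f₂ ∉ centralizer (L : Set G) →
    f₁ * s ∈ centralizer (L : Set G) ∨ f₂ * s ∈ centralizer (L : Set G) ∨
      f₁ * f₂ * s ∈ centralizer (L : Set G) ∨ Rot L s f₁ ∨ Rot L s f₂ ∨ Rot L s (f₁ * f₂) ∨
        ∀ N : Subgroup G, (∀ d ∈ L, d ^ 3 = 1 → (d * f₁ = f₁ * d ∨ d * f₂ = f₂ * d ∨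
          d * (f₁ * f₂) = (f₁ * f₂) * d) → d ∈ N) → L ≤ N
  /-- the 2-rank of `L` is two -/
  rk2 : ∀ L ∈ Λ, ∀ a ∈ L, ∀ b ∈ L, ∀ c ∈ L, Inv a → Inv b → Inv c → a * b = b * a → a * c = c * a →
    b * c = c * b → a ≠ b → c = a ∨ c = b ∨ c = a * b

theorem sim_mem {L N : Subgroup G} (h : Sim L N) {n : G} (hn : n ∈ N) : n ∈ normalizer (L : Set G) :=
  Paired.Twin.mem_normalizer_of_sim h hn

namespace Out

variable {Λ : Set (Subgroup G)} {B : G → Subgroup G → Prop} {Y : Subgroup G → G → Prop} {X : Subgroup G}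
  {L N : Subgroup G} {x : G}

section

variable (H : Out Λ B Y X)
include H

/-- two members sharing an involution which are `Sim` are equal -/
theorem eq_of_sim (hL : L ∈ Λ) (h : Sim L N) {u : G} (hu : u ∈ L) (hn : u ∈ N) (h1 : u ≠ 1) : L = N := by
  by_contra hne
  exact h1 (H.toHyp.inf_eq hL h hne hu hn)

/-- the involutions of `C(x) ∩ X` -/
theorem cls' (hB : B x L) {e : G} (heX : e ∈ X) (he : e * x = x * e) (hee : e * e = 1) (h1 : e ≠ 1) :
    IsT L x e ∨ ∃ s, IsS L x s ∧ ∃ t, IsT1 L x t ∧ e = s * t := by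
  have hxx := (H.Binv hB).sq
  have heM := H.hx hB e he
  have key : ∀ c ∈ X, c * x ∉ X := by
    intro c hc h
    apply H.xX hB
    exact (X.mul_mem_cancel_left hc).mp h
  rcases H.cenx hB e heM hee he with h | h | ⟨s, hs, h | h⟩
  · exact Or.inl ⟨h, he, hee, h1⟩
  · exfalso
    by_cases h2 : e * x = 1
    · exact key e heX (h2 ▸ one_mem X)
    · refine key e heX (H.tX hB ⟨h, ?_, ?_, h2⟩)
      · rw [he]; rw [mul_assoc, he]
      · calc e * x * (e * x) = e * (x * e) * x := by group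
          _ = (e * e) * (x * x) := by rw [← he]; group
          _ = 1 := by rw [hee, hxx, one_mul]
  · have c1 : s * (e * s) = e * s * s := comm_of_mem hs.mem h
    have c2 : s * e = e * s := by
      have : s * (e * s) = s * e * s := by group
      rw [this] at c1
      exact mul_right_cancel c1
    refine Or.inr ⟨s, hs, e * s, ⟨h, ?_, ?_⟩, ?_⟩
    · calc e * s * x = e * (s * x) := by group
        _ = (e * x) * s := by rw [hs.comm]; group
        _ = x * (e * s) := by rw [he]; group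
    · calc e * s * (e * s) = e * (s * e) * s := by group
        _ = (e * e) * (s * s) := by rw [c2]; group
        _ = 1 := by rw [hee, hs.sq, one_mul]
    · rw [← c2, ← mul_assoc, hs.sq, one_mul]
  · exfalso
    have c1 : s * (e * x * s) = e * x * s * s := comm_of_mem hs.mem h
    have c3 : s * (e * x) = e * x * s := by
      have : s * (e * x * s) = s * (e * x) * s := by group
      rw [this] at c1
      exact mul_right_cancel c1
    have h3 : e * x * s ∈ X := by
      by_cases h2 : e * x * s = 1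
      · rw [h2]; exact one_mem X
      · refine H.tX hB ⟨h, ?_, ?_, h2⟩
        · calc e * x * s * x = e * x * (s * x) := by group
            _ = (e * x) * x * s := by rw [hs.comm]; group
            _ = (x * e) * x * s := by rw [he]
            _ = x * (e * x * s) := by group
        · calc e * x * s * (e * x * s) = e * x * (s * (e * x)) * s := by group
            _ = e * (x * e) * x * (s * s) := by rw [c3]; group
            _ = (e * e) * (x * x) * (s * s) := by rw [← he]; group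
            _ = 1 := by rw [hee, hs.sq, hxx]; group
    exact key e heX ((X.mul_mem_cancel_right (H.LX L (H.Bmem hB) hs.mem)).mp h3)

theorem bad_xt (hB : B x L) {t : G} (ht : IsT1 L x t) : B (x * t) L := by
  by_cases h : t = 1
  · rw [h, mul_one]; exact hB
  · exact H.mul hB (ht.isT h)

theorem bad_xs (hB : B x L) {s : G} (hs : IsS L x s) : B (x * s) L := by
  obtain ⟨l, hl, h⟩ := H.conjS hB s hs
  have h1 := H.Bcj l⁻¹ x L hB
  rw [mem_normalizer_iff_cj.mp (L_le_M (inv_mem hl)), ← h] at h1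
  have h2 : l⁻¹ * (l * (x * s) * l⁻¹) * l⁻¹⁻¹ = x * s := by group
  rwa [h2] at h1

theorem bad_xst (hB : B x L) {s t : G} (hs : IsS L x s) (ht : IsT1 L x t) : B (x * (s * t)) L := by
  have h1 : s * t = t * s := comm_of_mem hs.mem ht.mem
  have h2 := H.bad_xt (H.bad_xs hB hs) (t := t) ⟨ht.mem, by
    calc t * (x * s) = (t * x) * s := by group
      _ = x * (t * s) := by rw [ht.comm]; group
      _ = x * s * t := by rw [← h1]; group, ht.sq⟩
  rwa [mul_assoc] at h2

end

end Out

end Cfsg.Agent.UGT.CaseG
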