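import Cfsg.Agent.UGT.CaseG.Gen3
import Cfsg.Agent.UGT.CaseG.Base

/-!
# Case (g): facts on `PSL(2,F)`

* `rot` : the rotation inverted by `s`, commuting with `w`;
* `cens` : the field `Out.cens`;
* `rk2` : the field `Out.rk2`.
-/

set_option autoImplicit false

namespace Cfsg.Agent.UGT.CaseG.KF

open Matrix Subgroup Cfsg.Agent.GH.L2Aut Cfsg.Agent.Lib.SL2Mat Cfsg.Agent.Lib.AutSL2
open Cfsg.Agent.UGT.Res.FldGen Cfsg.Agent.UGT.Res.FldCens Cfsg.Agent.OddHalf.D6
open Cfsg.Agent.UGT.CaseG.Gen3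

section abs

variable {F : Type*} [Field F] {L : Type*} [Group L] (R : Cfsg.Agent.GH.L2Aut.Rep F L)

theorem diag_mul (a b c d : F) (h : a * b - 0 * 0 = 1) (h' : c * d - 0 * 0 = 1) :
    mk a 0 0 b h * mk c 0 0 d h' = mk (a * c) 0 0 (b * d) (by linear_combination c * d * h + h') := by
  refine ext_ent ?_ ?_ ?_ ?_
  · rw [ent_mul]; change a * c + 0 * 0 = a * c; ring
  · rw [ent_mul]; change a * 0 + 0 * d = 0; ring
  · rw [ent_mul]; change 0 * c + b * 0 = 0; ring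
  · rw [ent_mul]; change 0 * 0 + b * d = b * d; ring

theorem diag_pow (a b : F) (h : a * b - 0 * 0 = 1) (n : ℕ) :
    ∃ h', mk a 0 0 b h ^ n = mk (a ^ n) 0 0 (b ^ n) h' := by
  induction n with
  | zero =>
    refine ⟨by rw [pow_zero, pow_zero]; ring, ?_⟩
    rw [pow_zero]
    refine ext_ent ?_ ?_ ?_ ?_
    · change 1 = a ^ 0; rw [pow_zero]
    · rfl
    · rfl
    · change 1 = b ^ 0; rw [pow_zero]
  | succ n ih =>
    obtain ⟨h', ih⟩ := ih
    refine ⟨by rw [pow_succ, pow_succ]; linear_combination a * b * h' + h, ?_⟩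
    rw [pow_succ, ih, diag_mul]
    refine ext_ent ?_ rfl rfl ?_
    · change a ^ n * a = a ^ (n + 1); rw [pow_succ]
    · change b ^ n * b = b ^ (n + 1); rw [pow_succ]

variable [Finite F]
include R

/-- `s` inverts a rotation commuting with `w` -/
theorem rot {i : F} (hi : i * i = -1) (hF : 17 < Nat.card F) {w s : L} (h : Four w s) :
    ∃ r : L, r * w = w * r ∧ s * r * s⁻¹ = r⁻¹ ∧ r ^ 8 ≠ 1 := by
  have hi' : i * -i - 0 * 0 = 1 := by linear_combination -hi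
  obtain ⟨D, hD⟩ : ∃ D, D = mk i 0 0 (-i) hi' := ⟨_, rfl⟩
  have hDD : D.1 * D.1 = -1 := by
    have h1 : D * D = -1 := by
      rw [hD, diag_mul]
      refine ext_ent ?_ ?_ ?_ ?_
      · change i * i = -(1 : Matrix (Fin 2) (Fin 2) F) 0 0; rw [hi]; simp
      · change 0 = -(1 : Matrix (Fin 2) (Fin 2) F) 0 1; simp
      · change 0 = -(1 : Matrix (Fin 2) (Fin 2) F) 1 0; simp
      · change -i * -i = -(1 : Matrix (Fin 2) (Fin 2) F) 1 1; rw [neg_mul_neg, hi]; simp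
    exact congrArg Subtype.val h1
  have hJJ : (Cfsg.Agent.UGT.Res.FldGen.J : Matrix.SpecialLinearGroup (Fin 2) F).1 * Cfsg.Agent.UGT.Res.FldGen.J.1 = -1 := congrArg Subtype.val J_sq
  have hDJ : D.1 * (Cfsg.Agent.UGT.Res.FldGen.J : Matrix.SpecialLinearGroup (Fin 2) F).1 = -(Cfsg.Agent.UGT.Res.FldGen.J.1 * D.1) := by
    have h1 : D * Cfsg.Agent.UGT.Res.FldGen.J = -(Cfsg.Agent.UGT.Res.FldGen.J * D) := by
      rw [hD]
      refine ext_ent ?_ ?_ ?_ ?_
      · rw [ent_mul]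
        change i * 0 + 0 * (-1) = -((Cfsg.Agent.UGT.Res.FldGen.J * mk i 0 0 (-i) hi').1 0 0)
        have : (Cfsg.Agent.UGT.Res.FldGen.J * mk i 0 0 (-i) hi').1 0 0 = ent (Cfsg.Agent.UGT.Res.FldGen.J * mk i 0 0 (-i) hi') 0 0 := rfl
        rw [this, ent_mul]
        change i * 0 + 0 * (-1) = -(0 * i + 1 * 0); ring
      · rw [ent_mul]
        change i * 1 + 0 * 0 = -((Cfsg.Agent.UGT.Res.FldGen.J * mk i 0 0 (-i) hi').1 0 1)
        have : (Cfsg.Agent.UGT.Res.FldGen.J * mk i 0 0 (-i) hi').1 0 1 = ent (Cfsg.Agent.UGT.Res.FldGen.J * mk i 0 0 (-i) hi') 0 1 := rfl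
        rw [this, ent_mul]
        change i * 1 + 0 * 0 = -(0 * 0 + 1 * -i); ring
      · rw [ent_mul]
        change 0 * 0 + -i * (-1) = -((Cfsg.Agent.UGT.Res.FldGen.J * mk i 0 0 (-i) hi').1 1 0)
        have : (Cfsg.Agent.UGT.Res.FldGen.J * mk i 0 0 (-i) hi').1 1 0 = ent (Cfsg.Agent.UGT.Res.FldGen.J * mk i 0 0 (-i) hi') 1 0 := rfl
        rw [this, ent_mul]
        change 0 * 0 + -i * (-1) = -((-1) * i + 0 * 0); ring
      · rw [ent_mul]
        change 0 * 1 + -i * 0 = -((Cfsg.Agent.UGT.Res.FldGen.J * mk i 0 0 (-i) hi').1 1 1)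
        have : (Cfsg.Agent.UGT.Res.FldGen.J * mk i 0 0 (-i) hi').1 1 1 = ent (Cfsg.Agent.UGT.Res.FldGen.J * mk i 0 0 (-i) hi') 1 1 := rfl
        rw [this, ent_mul]
        change 0 * 1 + -i * 0 = -((-1) * 0 + 0 * -i); ring
    exact congrArg Subtype.val h1
  obtain ⟨g, hgw, hgs⟩ := R.four_conj h (R.four_of_pair hDD hJJ hDJ)
  have := Fintype.ofFinite F
  obtain ⟨a, ha⟩ := IsCyclic.exists_generator (α := Fˣ)
  have hord : orderOf a = Nat.card F - 1 := by
    rw [orderOf_eq_card_of_forall_mem_zpowers ha, Nat.card_units]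
  have ha' : (a : F) * ((a⁻¹ : Fˣ) : F) - 0 * 0 = 1 := by rw [Units.mul_inv]; ring
  obtain ⟨T, hT⟩ : ∃ T, T = mk (a : F) 0 0 ((a⁻¹ : Fˣ) : F) ha' := ⟨_, rfl⟩
  have hTD : T * D = D * T := by
    rw [hT, hD, diag_mul, diag_mul]
    refine ext_ent ?_ rfl rfl ?_
    · exact mul_comm _ _
    · exact mul_comm _ _
  have hTJ : Cfsg.Agent.UGT.Res.FldGen.J * T * Cfsg.Agent.UGT.Res.FldGen.J⁻¹ = T⁻¹ := by
    rw [hT, J_conj, eq_inv_iff_mul_eq_one]
    refine ext_ent ?_ ?_ ?_ ?_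
    · rw [ent_mul]; change ((a⁻¹ : Fˣ) : F) * a + -0 * 0 = 1; rw [Units.inv_mul]; ring
    · rw [ent_mul]; change ((a⁻¹ : Fˣ) : F) * 0 + -0 * ((a⁻¹ : Fˣ) : F) = 0; ring
    · rw [ent_mul]; change -0 * (a : F) + a * 0 = 0; ring
    · rw [ent_mul]; change -0 * (0 : F) + a * ((a⁻¹ : Fˣ) : F) = 1; rw [Units.mul_inv]; ring
  refine ⟨R.gl g (R.π T), ?_, ?_, ?_⟩
  · rw [← hgw, ← map_mul, ← map_mul, ← map_mul, ← map_mul, hTD]
  · rw [← hgs, ← map_inv, ← map_mul, ← map_mul, ← map_inv, ← map_inv, ← map_mul, ← map_mul, hTJ,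
      map_inv]
  · intro h8
    rw [← map_pow, ← map_pow] at h8
    have h9 : R.π (T ^ 8) = 1 := (R.gl g).injective (by rw [h8, map_one])
    have h16 : T ^ 16 = 1 := by
      have e : T ^ 16 = T ^ 8 * T ^ 8 := by rw [← pow_add]
      rcases (R.ker _).1 h9 with h | h
      · rw [e, h, one_mul]
      · rw [e, h, neg_mul_neg, one_mul]
    obtain ⟨h', hp⟩ := diag_pow (a : F) ((a⁻¹ : Fˣ) : F) ha' 16
    rw [hT, hp] at h16
    have h17 : (a : F) ^ 16 = 1 := congrArg (fun x => ent x 0 0) h16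
    have h18 : a ^ 16 = 1 := Units.ext (by rw [Units.val_pow_eq_pow_val, h17, Units.val_one])
    have h19 := Nat.le_of_dvd (by norm_num) (orderOf_dvd_of_pow_eq_one h18)
    omega

/-- a field automorphism of order two: `|F| = 9` or `-1` is a square and `17 < |F|` -/
theorem big_or {α : MulAut L} (hα : α * α = 1) (hf : R.fld α ≠ 1) :
    Nat.card F < 11 ∨ (17 < Nat.card F ∧ ∃ i : F, i * i = -1) := by
  obtain ⟨R', -, -, hR', hσ⟩ := R.ftype_rep (fun h => hf (R.mem_PGL_iff_fld.1 h)) hα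
  obtain ⟨K, hK, hcard⟩ := Cfsg.Agent.GH.L2Aut.exists_fixed_field (R.fld α)
  obtain ⟨i, hi⟩ := isSquare_of_mem R.two (m := orderOf (R.fld α)) hcard (by rw [hσ]; exact even_two)
    (neg_mem (one_mem K) : (-1 : F) ∈ K)
  have h4 : Odd (Nat.card K) := odd_card (two_sub R.two K)
  have h5 : 1 < Nat.card K := Finite.one_lt_card
  rw [hcard, hσ]
  obtain ⟨k, hk⟩ := h4
  by_cases h3 : Nat.card K = 3
  · left; rw [h3]; norm_num
  · right
    have h7 : 5 ≤ Nat.card K := by omega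
    have h8 : 5 ^ 2 ≤ Nat.card K ^ 2 := Nat.pow_le_pow_left h7 2
    exact ⟨by omega, i, hi.symm⟩

end abs

/-! ### subgroups of `G` -/

open Cfsg.Agent.UGT.Res.EFacts
open Cfsg.Agent.UGT.Paired.Basic
open Cfsg.Agent.UGT.ThE.Base (comm_of_mem)

variable {G : Type*} [Group G] {L : Subgroup G} {F : Type*} [Field F] [Finite F]
  (R : Cfsg.Agent.GH.L2Aut.Rep F L)
include R

/-- three pairwise commuting involutions -/
theorem rk2 {a b c : L} (h : Four a b) (hcc : c * c = 1) (hc1 : c ≠ 1) (hac : a * c = c * a)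
    (hbc : b * c = c * b) : c = a ∨ c = b ∨ c = a * b := by
  have hne : ∀ x : L, x ≠ 1 → MulAut.conj x ≠ 1 := fun x hx h1 =>
    hx (R.conj_injective (by rw [h1, map_one]))
  have hsq : ∀ x : L, x * x = 1 → MulAut.conj x * MulAut.conj x = 1 := fun x hx => by
    rw [← map_mul, hx, map_one]
  have hcm : ∀ x y : L, x * y = y * x → MulAut.conj x * MulAut.conj y = MulAut.conj y * MulAut.conj x :=
    fun x y hxy => by rw [← map_mul, hxy, map_mul]
  have h0 : MulAut.conj a * MulAut.conj b ≠ 1 := by rw [← map_mul]; exact hne _ h.right.b1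
  have key := four_cens R (σ := MulAut.conj c) (α := MulAut.conj a)
    (β := MulAut.conj b) (R.conj_mem_PGL c) (hne c hc1) (hsq c hcc) (R.conj_mem_PGL a) (hne a h.a1)
    (hsq a h.aa) (R.conj_mem_PGL b) (hne b h.b1) (hsq b h.bb) (hcm a b h.comm) h0 (hcm a c hac)
    (hcm b c hbc)
  rcases key with h1 | h1 | h1
  · exact Or.inl (R.conj_injective h1).symm
  · exact Or.inr (Or.inl (R.conj_injective h1).symm)
  · rw [← map_mul] at h1
    exact Or.inr (Or.inr (R.conj_injective h1).symm)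

/-- **the field `rk2` of `Out`** -/
theorem rk2' {a b c : G} (ha : a ∈ L) (hb : b ∈ L) (hc : c ∈ L) (hai : Inv a) (hbi : Inv b)
    (hci : Inv c) (hab : a * b = b * a) (hac : a * c = c * a) (hbc : b * c = c * b) (hne : a ≠ b) :
    c = a ∨ c = b ∨ c = a * b := by
  have h : Four (⟨a, ha⟩ : L) ⟨b, hb⟩ :=
    ⟨Subtype.ext hai.sq, Subtype.ext hbi.sq, fun h => hai.ne (congrArg Subtype.val h),
      fun h => hbi.ne (congrArg Subtype.val h), fun h => hne (congrArg Subtype.val h), Subtype.ext hab⟩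
  rcases rk2 R h (c := ⟨c, hc⟩) (Subtype.ext hci.sq) (fun h => hci.ne (congrArg Subtype.val h))
    (Subtype.ext hac) (Subtype.ext hbc) with h1 | h1 | h1
  · exact Or.inl (congrArg Subtype.val h1)
  · exact Or.inr (Or.inl (congrArg Subtype.val h1))
  · exact Or.inr (Or.inr (congrArg Subtype.val h1))

/-- `f` is inner, `δ` of field type, commuting; `s` commutes with both -/
theorem cens_aux {s f g : G} (hs : s ∈ L) (hss : s * s = 1) (hs1 : s ≠ 1)
    (hf : f ∈ normalizer (L : Set G)) (hg : g ∈ normalizer (L : Set G)) (hff : f * f = 1)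
    (hgg : g * g = 1) (hfg : f * g = g * f) (hfs : f * s = s * f)
    (hfC : f ∉ centralizer (L : Set G)) (hf1 : R.fld (act L f hf) = 1) (hg1 : R.fld (act L g hg) ≠ 1) :
    f * s ∈ centralizer (L : Set G) ∨ Rot L s f ∨ ∀ N : Subgroup G, (∀ d ∈ L, d ^ 3 = 1 →
      (d * g = g * d ∨ d * (g * f) = (g * f) * d) → d ∈ N) → L ≤ N := by
  have hα := act_sq hg hgg
  have ho : R.o1 (act L f hf) = 1 := R.o1_of_comm hα hg1 (act_comm' hf hg hfg)
  obtain ⟨⟨u, hu⟩, h⟩ := R.mem_inn_iff.2 ⟨hf1, ho⟩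
  have hne : act L f hf ≠ 1 := fun h => hfC ((act_one_iff' hf).mp h)
  have huu : (⟨u, hu⟩ : L) * ⟨u, hu⟩ = 1 := R.conj_injective (by rw [map_mul, h, act_sq hf hff, map_one])
  have hu1 : (⟨u, hu⟩ : L) ≠ 1 := by
    intro h1
    rw [h1, map_one] at h
    exact hne h.symm
  have huu' : u * u = 1 := congrArg Subtype.val huu
  have hu1' : u ≠ 1 := fun h => hu1 (Subtype.ext h)
  have hfu : f * u ∈ centralizer (L : Set G) := by
    rw [← act_one_iff' (mul_mem hf (le_normalizer hu)), ← act_mul hf (le_normalizer hu), act_of_mem hu,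
      h, act_sq hf hff]
  have hus : u * s = s * u := by
    have h2 : s * (f * u) = f * u * s := comm_of_mem hs hfu
    have h3 : f * (u * s) = f * (s * u) := by
      calc f * (u * s) = f * u * s := by group
        _ = s * (f * u) := h2.symm
        _ = (s * f) * u := by group
        _ = f * (s * u) := by rw [← hfs]; group
    exact mul_left_cancel h3
  by_cases hne' : u = s
  · left; rw [← hne']; exact hfu
  right
  rcases big_or R hα hg1 with hF | ⟨hF, i, hi⟩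
  · right
    intro N hN
    have hfix : act L g hg ⟨u, hu⟩ = ⟨u, hu⟩ := by
      have h2 : MulAut.conj (⟨u, hu⟩ : L) * act L g hg = act L g hg * MulAut.conj ⟨u, hu⟩ := by
        rw [h]; exact act_comm' hf hg hfg
      exact R.conj_injective (Cfsg.Agent.GH.L2Aut.Rep.conj_comm_iff.1 h2)
    have h4 := gen3_small R hF hα hg1 huu hu1 hfix (N.subgroupOf L) ?_ ?_
    · exact subgroupOf_eq_top.1 h4
    · rintro ⟨y, hy⟩ hy3 h5
      exact mem_subgroupOf.2 (hN y hy (congrArg Subtype.val hy3) (Or.inl ((act_fix hg hy).1 h5)))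
    · rintro ⟨y, hy⟩ hy3 h5
      refine mem_subgroupOf.2 (hN y hy (congrArg Subtype.val hy3) (Or.inr ?_))
      have h6 : act L (g * f) (mul_mem hg hf) ⟨y, hy⟩ = ⟨y, hy⟩ := by
        rw [← act_mul hg hf, MulAut.mul_apply, ← h]
        exact h5
      exact (act_fix (mul_mem hg hf) hy).1 h6
  · left
    have hfour : Four (⟨s * u, mul_mem hs hu⟩ : L) ⟨s, hs⟩ := by
      have h6 : Four (⟨s, hs⟩ : L) ⟨u, hu⟩ :=
        ⟨Subtype.ext hss, huu, fun h => hs1 (congrArg Subtype.val h), hu1,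
          fun h => hne' (congrArg Subtype.val h).symm, Subtype.ext hus.symm⟩
      exact h6.right.symm
    obtain ⟨⟨r, hr⟩, h7, h8, h9⟩ := rot R hi hF hfour
    have h7' : r * (s * u) = s * u * r := congrArg Subtype.val h7
    have h8' : s * r * s⁻¹ = r⁻¹ := congrArg Subtype.val h8
    refine ⟨u, hu, huu', hfu, hus, r, hr, h7', h8', ?_, fun h => h9 (Subtype.ext h)⟩
    have h10 : u * r * u⁻¹ = s * r * s⁻¹ := by
      have e1 : s * u * r * (s * u)⁻¹ = r := by rw [← h7']; group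
      have e2 : s⁻¹ = s := inv_eq_of_mul_eq_one_left hss
      calc u * r * u⁻¹ = s⁻¹ * (s * u * r * (s * u)⁻¹) * s := by group
        _ = s * r * s⁻¹ := by rw [e1, e2]
    rw [h10, h8']

/-- **the field `cens` of `Out`** -/
theorem cens {s f₁ f₂ : G} (hs : s ∈ L) (hss : s * s = 1) (hs1 : s ≠ 1)
    (hf₁ : f₁ ∈ normalizer (L : Set G)) (hf₂ : f₂ ∈ normalizer (L : Set G))
    (h₁ : f₁ * f₁ = 1) (h₂ : f₂ * f₂ = 1) (h₁₂ : f₁ * f₂ = f₂ * f₁) (hs₁ : f₁ * s = s * f₁)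
    (hs₂ : f₂ * s = s * f₂) (hn₁ : f₁ ∉ centralizer (L : Set G)) (hn₂ : f₂ ∉ centralizer (L : Set G))
    (hn₁₂ : f₁ * f₂ ∉ centralizer (L : Set G)) :
    f₁ * s ∈ centralizer (L : Set G) ∨ f₂ * s ∈ centralizer (L : Set G) ∨
      f₁ * f₂ * s ∈ centralizer (L : Set G) ∨ Rot L s f₁ ∨ Rot L s f₂ ∨ Rot L s (f₁ * f₂) ∨
        ∀ N : Subgroup G, (∀ d ∈ L, d ^ 3 = 1 → (d * f₁ = f₁ * d ∨ d * f₂ = f₂ * d ∨
          d * (f₁ * f₂) = (f₁ * f₂) * d) → d ∈ N) → L ≤ N := by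
  have hsN : s ∈ normalizer (L : Set G) := le_normalizer hs
  by_cases hfl₁ : R.fld (act L f₁ hf₁) = 1
  · by_cases hfl₂ : R.fld (act L f₂ hf₂) = 1
    · have hσ := act_sq hsN hss
      have hσ1 : act L s hsN ≠ 1 := by
        rw [act_of_mem hs]
        intro h
        have h1 : (⟨s, hs⟩ : L) = 1 := R.conj_injective (by rw [h, map_one])
        exact hs1 (congrArg Subtype.val h1)
      have key := four_cens R (by
          rw [act_of_mem hs]
          exact R.conj_mem_PGL _) hσ1 hσ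
        (R.mem_PGL_iff_fld.2 hfl₁) (fun h => hn₁ ((act_one_iff' hf₁).mp h)) (act_sq hf₁ h₁)
        (R.mem_PGL_iff_fld.2 hfl₂) (fun h => hn₂ ((act_one_iff' hf₂).mp h)) (act_sq hf₂ h₂)
        (act_comm' hf₁ hf₂ h₁₂) (fun h => hn₁₂ ((act_one_iff' (mul_mem hf₁ hf₂)).mp (by
          rwa [act_mul hf₁ hf₂] at h))) (act_comm' hf₁ hsN hs₁) (act_comm' hf₂ hsN hs₂)
      rcases key with h | h | h
      · left
        rw [← act_one_iff' (mul_mem hf₁ hsN), ← act_mul hf₁ hsN, h, hσ]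
      · right; left
        rw [← act_one_iff' (mul_mem hf₂ hsN), ← act_mul hf₂ hsN, h, hσ]
      · right; right; left
        rw [← act_one_iff' (mul_mem (mul_mem hf₁ hf₂) hsN), ← act_mul (mul_mem hf₁ hf₂) hsN,
          ← act_mul hf₁ hf₂, h, hσ]
    · -- `f₁` inner, `f₂` field
      rcases cens_aux R hs hss hs1 hf₁ hf₂ h₁ h₂ h₁₂ hs₁ hn₁ hfl₁ hfl₂ with h | h | h
      · exact Or.inl h
      · exact Or.inr (Or.inr (Or.inr (Or.inl h)))
      · refine Or.inr (Or.inr (Or.inr (Or.inr (Or.inr (Or.inr fun N hN => h N fun d hd h3 hc => ?_)))))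
        refine hN d hd h3 ?_
        rcases hc with hc | hc
        · exact Or.inr (Or.inl hc)
        · rw [← h₁₂] at hc
          exact Or.inr (Or.inr hc)
  · by_cases hfl₂ : R.fld (act L f₂ hf₂) = 1
    · rcases cens_aux R hs hss hs1 hf₂ hf₁ h₂ h₁ h₁₂.symm hs₂ hn₂ hfl₂ hfl₁ with h | h | h
      · exact Or.inr (Or.inl h)
      · exact Or.inr (Or.inr (Or.inr (Or.inr (Or.inl h))))
      · refine Or.inr (Or.inr (Or.inr (Or.inr (Or.inr (Or.inr fun N hN => h N fun d hd h3 hc => ?_)))))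
        refine hN d hd h3 ?_
        rcases hc with hc | hc
        · exact Or.inl hc
        · exact Or.inr (Or.inr hc)
    · -- both of field type
      have hα := act_sq hf₁ h₁
      have hβ := act_sq hf₂ h₂
      have hI₁ : act L f₁ hf₁ ∉ Inn L := fun h => hfl₁ (R.mem_inn_iff.1 h).1
      have hI₂ : act L f₂ hf₂ ∉ Inn L := fun h => hfl₂ (R.mem_inn_iff.1 h).1
      have hI := Cfsg.Agent.UGT.SL.outer_mul_mem R hα hβ (act_comm' hf₁ hf₂ h₁₂) hI₁ hI₂
      rw [act_mul hf₁ hf₂] at hI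
      have hfl := (R.mem_inn_iff.1 hI).1
      have h₃ : f₁ * f₂ * (f₁ * f₂) = 1 := by
        calc f₁ * f₂ * (f₁ * f₂) = f₁ * (f₂ * f₁) * f₂ := by group
          _ = (f₁ * f₁) * (f₂ * f₂) := by rw [← h₁₂]; group
          _ = 1 := by rw [h₁, h₂, one_mul]
      have h₄ : f₁ * f₂ * f₁ = f₁ * (f₁ * f₂) := by rw [mul_assoc, ← h₁₂]
      have h₅ : f₁ * f₂ * s = s * (f₁ * f₂) := by
        rw [mul_assoc, hs₂, ← mul_assoc, hs₁, mul_assoc]
      rcases cens_aux R hs hss hs1 (mul_mem hf₁ hf₂) hf₁ h₃ h₁ h₄ h₅ hn₁₂ hfl hfl₁ with h | h | h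
      · exact Or.inr (Or.inr (Or.inl h))
      · exact Or.inr (Or.inr (Or.inr (Or.inr (Or.inr (Or.inl h)))))
      · refine Or.inr (Or.inr (Or.inr (Or.inr (Or.inr (Or.inr fun N hN => h N fun d hd h3 hc => ?_)))))
        refine hN d hd h3 ?_
        rcases hc with hc | hc
        · exact Or.inl hc
        · have e : f₁ * (f₁ * f₂) = f₂ := by rw [← mul_assoc, h₁, one_mul]
          rw [e] at hc
          exact Or.inr (Or.inl hc)

end Cfsg.Agent.UGT.CaseG.KF
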