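import Cfsg.Agent.UGT.CaseG.Main
import Cfsg.Agent.UGT.CaseG.KF
import Cfsg.Agent.UGT.Paired.OfBBS
import Cfsg.Agent.UGT.Res.NodeCOne

/-!
# Case (g): the final statements

`x ∉ X`, at most one `L` for each pair `(x, a)`, `X = F*(G)` core-free, rank at least two.

* `out` : `BBS BB` gives `Out` for the conjugates of `L₀`, if no bad `x` normalizes a second member commuting with
  its `L`;
* `false_of_bbs` : a system of bad pairs with `x ∉ X`, `X` a normal simple subgroup of index at most two, is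
  contradictory;
* `false_of_hon`, `false_of` : leaf (O3).
-/

set_option autoImplicit false

open Cfsg Subgroup
open Cfsg.Agent.SignalizersComponents Cfsg.Agent.Lib
open Cfsg.Agent.SignalizersComponents.IntrinsicBasic
open Cfsg.Agent.Intrinsic.Basic Cfsg.Agent.Intrinsic.Cen
open Cfsg.Agent.McLLyComp.Act (fixes_one)
open Cfsg.Agent.UGT.Triple Cfsg.Agent.UGT.TriBase Cfsg.Agent.UGT.Iface
open Cfsg.Agent.UGT.Res.Base
open Cfsg.Agent.UGT.Res.KFacts (Pgl)
open Cfsg.Agent.UGT.Res.EFacts Cfsg.Agent.UGT.Res.BBS Cfsg.Agent.UGT.Res.Hon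
open Cfsg.Agent.UGT.Res Cfsg.Agent.UGT.Res.NodeCOne
open Cfsg.Agent.UGT.ThE.Base (IsT IsS comm_of_mem)
open Cfsg.Agent.UGT.Paired.Basic Cfsg.Agent.UGT.Paired.Inst

namespace Cfsg.Agent.UGT.CaseG.OfBBS

universe u

variable {G : Type u} [Group G] [Finite G] {X : Subgroup G} {BB : G → Subgroup G → Prop}

/-- `x ∉ X`, the involutions of `C(L) ∩ C(x)` lie in `X` -/
structure XOut (BB : G → Subgroup G → Prop) (X : Subgroup G) : Prop where
  normal : X.Normal
  out : ∀ {x : G} {L : Subgroup G}, BB x L → x ∉ X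
  cov : ∀ {x : G} {L : Subgroup G}, BB x L → ∀ g, g ∈ X ∨ g * x ∈ X
  le : ∀ {x : G} {L : Subgroup G}, BB x L → L ≤ X
  tX : ∀ {x t : G} {L : Subgroup G}, BB x L → IsT L x t → t ∈ X
  rk : ∀ {x t : G} {L : Subgroup G}, BB x L → IsT L x t → ∃ u, IsT L x u ∧ u ≠ t ∧ u * t = t * u

theorem out (S : BBS BB) (Z : XOut BB X) {x₀ : G} {L₀ : Subgroup G} (h₀ : BB x₀ L₀)
    (np : ∀ {x : G} {L N : Subgroup G}, Bd BB L₀ x L → N ∈ Cl L₀ → Sim N L →
      x ∈ normalizer (N : Set G) → N = L) :
    Out (Cl L₀) (Bd BB L₀) (Yd BB L₀) X := by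
  have hrep : ∀ {L : Subgroup G}, L ∈ Cl L₀ → ∃ (F : Type) (_ : Field F) (_ : Finite F),
      4 < Nat.card F ∧ Nonempty (Cfsg.Agent.GH.L2Aut.Rep F L) := by
    intro L hL
    obtain ⟨x, hx⟩ := exists_bd S h₀ hL
    obtain ⟨F, i1, i2, h5, hR⟩ := S.rep hx.1
    exact ⟨F, i1, i2, by omega, hR⟩
  exact
    { toHyp := Paired.Inst.hyp S h₀
      XN := Z.normal
      xX := fun h => Z.out h.1
      LX := by
        intro L hL
        obtain ⟨x, hx⟩ := exists_bd S h₀ hL
        exact Z.le hx.1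
      tX := fun h ht => Z.tX h.1 ht
      cov := fun h g => Z.cov h.1 g
      ex := fun L hL => exists_bd S h₀ hL
      uniq := fun h h' => S.uniq h.1 h'.1
      hx := fun h c hc => S.hx h.1 hc
      four := fun h => S.four h.1
      rk := fun h ht => Z.rk h.1 ht
      np := np
      comm := by
        intro x L h
        obtain ⟨F, _, _, h5, ⟨R⟩⟩ := hrep h.2
        exact (S.cf h.1 R).comm
      inv := by
        intro x L h
        obtain ⟨F, _, _, h5, ⟨R⟩⟩ := hrep h.2
        exact FldFacts.inv' (S.cf h.1 R)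
      cens := by
        intro L hL s hs hsi f₁ hf₁ f₂ hf₂ h₁ h₂ h₁₂ hs₁ hs₂ hn₁ hn₂ hn₁₂
        obtain ⟨F, _, _, h5, ⟨R⟩⟩ := hrep hL
        exact KF.cens R hs hsi.sq hsi.ne hf₁ hf₂ h₁ h₂ h₁₂ hs₁ hs₂ hn₁ hn₂ hn₁₂
      rk2 := by
        intro L hL a ha b hb c hc hai hbi hci hab hac hbc hne
        obtain ⟨F, _, _, h5, ⟨R⟩⟩ := hrep hL
        exact KF.rk2' R ha hb hc hai hbi hci hab hac hbc hne }

/-- **no system of bad pairs with `x ∉ X`** -/
theorem false_of_bbs (S : BBS BB) (Z : XOut BB X) [IsSimpleGroup X] {x : G} {L : Subgroup G}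
    (h : BB x L) : False := by
  have hmem : L ∈ Cl L := ⟨1, (cj_one L).symm⟩
  have hXs : ∀ K : Subgroup G, K ≤ X → (∀ a ∈ X, ∀ k ∈ K, a * k * a⁻¹ ∈ K) → K = ⊥ ∨ K = X := by
    intro K hKX hK
    have hn : (K.subgroupOf X).Normal := by
      refine ⟨fun k hk a => ?_⟩
      rw [mem_subgroupOf] at hk ⊢
      exact hK a a.2 k hk
    rcases hn.eq_bot_or_eq_top with h1 | h1
    · left
      rw [subgroupOf_eq_bot] at h1
      rw [← inf_of_le_left hKX]
      exact h1.eq_bot
    · right
      rw [subgroupOf_eq_top] at h1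
      exact le_antisymm hKX h1
  have key := out S Z h (fun {y N P} hy hP hs hyP => by
    obtain ⟨g, hg⟩ := cl_tr hy.2 hP
    rcases hs with hs | hs
    · exact hs
    · rw [← hg] at hs hyP ⊢
      refine Paired.OfBBS.eq_of_pair' S hy.1 Z.normal (Z.le hy.1) (fun n hn => ?_) hyP
      rw [mem_centralizer_iff]
      exact fun l hl => (hs n hn l hl).symm)
  exact key.false_of (Paired.NAKF.naf S h) hXs hmem

theorem xout {X : Subgroup G} (C : CFX X) (hn : X.Normal)
    (hle : ∀ {x : G} {L : Subgroup G}, Hon X x L → L ≤ X) : XOut (fun x L => Hon X x L) X := by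
  have hxX : ∀ {x : G} {L : Subgroup G}, Hon X x L → x ∉ X := by
    intro x L h
    obtain ⟨t, u, ht, -⟩ := h.four
    exact C.not_mem (h.good ht).2
  exact
    { normal := hn
      out := hxX
      cov := by
        intro x L h g
        by_cases hg : g ∈ X
        · exact Or.inl hg
        · exact Or.inr (C.mul hg (hxX h))
      le := hle
      tX := fun h ht => (h.good ht).1
      rk := fun h ht => h.partner ht }

local notation "Fs" => generalizedFittingSubgroup

variable {x a : G} {L : Subgroup G}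

/-- **leaf (O3)**: no honest configuration with `x ∉ X` and at most one `L` for each pair -/
theorem false_of_hon (hG : MinCex G) (H : Pgl G) (O : Hon.One G) (C : CFX (Fs G))
    (h : Hon (Fs G) x L) : False := by
  have hs : IsSimpleGroup (Fs G) := hG.simple
  refine false_of_bbs (bbs_hon H O C) (xout C Trich.normal_fs fun {x L} h => ?_) h
  obtain ⟨t, u, ht, -⟩ := h.four
  exact U2.TypeOf.le_fs hG (h.good ht).2

/-- **Node R, `x ∉ X`, at most one `L` for each pair, rank at least two** -/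
theorem false_of (hG : MinCex G) (H : Pgl G) (O : Hon.One G) (T : IsTriple x a L) (hx : x ∉ Fs G)
    {c : G} (hc : orderOf c = 2) (hne : c ≠ a) (hca : c * a = a * c) (hcx : c * x = x * c)
    (hcL : Fixes c L) : False := by
  obtain ⟨C, -⟩ := cfx_of hG H T hx
  obtain ⟨L', h⟩ := exists_hon H O C T hc hne hca hcx hcL
  exact false_of_hon hG H O C h

end Cfsg.Agent.UGT.CaseG.OfBBS
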