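import Cfsg.Agent.UGT.CaseG.NA
import Cfsg.Agent.UGT.Paired.Main

/-!
# Case (g): the end

`Tight.mem_normalizer`: every involution of a member normalizes every member.
`Tight.all`: all members are equal or commute.
`Tight.false_of`: contradiction, if `X` is simple and some involution `t ∈ X` centralizes some `L ∈ Λ`.
-/

set_option autoImplicit false

open Subgroup
open Cfsg.Agent.SignalizersComponents.IntrinsicBasic
open Cfsg.Agent.UGT.ThE.Base
open Cfsg.Agent.UGT.Paired.Basic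
open Cfsg.Agent.UGT.Paired.Twin
open Cfsg.Agent.UGT.Paired.Com

namespace Cfsg.Agent.UGT.CaseG.NA.Tight

variable {G : Type*} [Group G] [Finite G] {Λ : Set (Subgroup G)} {B : G → Subgroup G → Prop}
  {Y : Subgroup G → G → Prop} {X : Subgroup G}

variable (T : Tight Λ B Y X) (hI : Inner Λ)
include T hI

theorem mem_normalizer {a : G} {L N : Subgroup G} (hL : L ∈ Λ) (hN : N ∈ Λ) (ha : a ∈ N) (hai : Inv a) :
    a ∈ normalizer (L : Set G) := by
  obtain ⟨e, hB⟩ := T.exists_bad hL
  have he := T.Binv hB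
  rcases Cfsg.Agent.UGT.Res.ThH.dih he.sq hai.sq with ⟨c, -, hc⟩ | ⟨m, hm, hmo, hme, hma⟩
  · exfalso
    apply T.xX hB
    have h1 := T.XN c⁻¹ a (T.LX N hN ha)
    rw [← hc] at h1
    have h2 : c⁻¹ * (c * e * c⁻¹) * c⁻¹⁻¹ = e := by group
    rwa [h2] at h1
  obtain ⟨w, hw⟩ : ∃ w, w = (e * a) ^ m := ⟨_, rfl⟩
  rw [← hw] at hmo hme hma
  have hww : w * w = 1 := Cfsg.Agent.UGT.Res.ThH.sq hmo
  have hw1 : w ≠ 1 := Cfsg.Agent.UGT.Res.ThH.ne_one hmo
  rcases Nat.even_or_odd m with ⟨j, hj⟩ | ⟨j, hj⟩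
  · have hj2 : m = 2 * j := by omega
    obtain ⟨ρ, hρρ, hρa, d, hd, hρd⟩ := dih_even he.sq hai.sq j
    rw [← hj2, ← hw] at hρa
    have hN2 : cj ρ N ∈ Λ := T.cl N hN ρ
    have haw : a * w ∈ cj ρ N := hρa ▸ conj_mem_cj ha
    have hawi : Inv (a * w) := hρa ▸ hai.conj ρ
    by_cases h1 : N = cj ρ N
    · have h2 : w ∈ N := by
        have h3 : w = a * (a * w) := by rw [← mul_assoc, hai.sq, one_mul]
        rw [h3]
        exact mul_mem ha (h1 ▸ haw)
      have h3 : N = L := T.eq_of_comm hB hN h2 ⟨hww, hw1⟩ hme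
      exact h3 ▸ le_normalizer ha
    have haw2 : a * w ∈ normalizer (N : Set G) := by
      apply T.ctrl hN ha hai
      calc a * w * a = a * (w * a) := by group
        _ = a * (a * w) := by rw [hma]
    have h2 : Sim N (cj ρ N) := (T.noAdj hI N hN _ hN2 _ haw hawi haw2).symm
    rcases hρd with hρd | hρd
    · have h3 := T.Bcj d e L hB
      rw [← hρd] at h3
      have h4 := T.isT_diag h3 hN h2 h1 ha hai
      rw [hρa, ← mul_assoc, hai.sq, one_mul] at h4
      have h5 : Cp (cj d L) w := T.cmp h3 h4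
      have hdw : d * w = w * d := by
        have h6 : e * a ∈ centralizer ({w} : Set G) := by
          rw [mem_centralizer_singleton_iff]
          calc e * a * w = e * (w * a) := by rw [hma]; group
            _ = (w * e) * a := by rw [hme]; group
            _ = w * (e * a) := by group
        exact mem_centralizer_singleton_iff.mp ((zpowers_le.mpr h6) hd)
      have h6 := cp_cj h5 d⁻¹
      rw [cj_inv_cj] at h6
      have h7 : d⁻¹ * w * d⁻¹⁻¹ = w := by
        rw [inv_inv, mul_assoc, ← hdw, ← mul_assoc, inv_mul_cancel, one_mul]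
      rw [h7] at h6
      have h8 : Sim L (cj a L) := h6 a hma.symm
      by_contra h9
      refine T.swap hI hN ha hai hL (fun h10 => h9 ?_) h8
      exact mem_normalizer_iff_cj.mpr h10.symm
    · exfalso
      have h3 : ρ ∈ cj d N := by rw [hρd]; exact conj_mem_cj ha
      have h4 : Inv ρ := by rw [hρd]; exact hai.conj d
      exact T.swap hI (T.cl N hN d) h3 h4 hN h1 h2
  · have h1 := dih_conj he.sq hai.sq j
    rw [← hj, ← hw] at h1
    have h2 : e * w ∈ cj ((e * a) ^ j)⁻¹ N := by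
      rw [← h1]
      have := conj_mem_cj (g := ((e * a) ^ j)⁻¹) ha
      rwa [inv_inv] at this
    have h3 : Inv (e * w) := by
      rw [← h1]
      have := hai.conj ((e * a) ^ j)⁻¹
      rwa [inv_inv] at this
    have h4 : e * w * e = e * (e * w) := by rw [mul_assoc, hme]
    have h5 := T.eq_of_comm hB (T.cl N hN _) h2 h3 h4
    rw [h5] at h2
    have h6 := T.xs_bad hB ⟨h2, h4, h3.sq, h3.ne⟩
    rw [← mul_assoc, he.sq, one_mul] at h6
    exact T.hx h6 hma.symm

theorem all : ∀ L ∈ Λ, ∀ N ∈ Λ, Sim N L := fun _ hL _ hN =>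
  T.star hL hN (T.le_of_inv hN fun _ hu hui => T.mem_normalizer hI hL hN hu hui)

/-- case (g) -/
theorem false_of
    (hXs : ∀ K : Subgroup G, K ≤ X → (∀ x ∈ X, ∀ k ∈ K, x * k * x⁻¹ ∈ K) → K = ⊥ ∨ K = X)
    {t : G} {L : Subgroup G} (hL : L ∈ Λ) (ht : t ∈ centralizer (L : Set G)) (ht1 : t ≠ 1)
    (htX : t ∈ X) : False := by
  have h1 : L = X := T.eq_of_all (T.all hI) hXs T.LX hL
  exact ht1 (T.disj hL (h1 ▸ htX) ht)

end Cfsg.Agent.UGT.CaseG.NA.Tight
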