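import Cfsg.Agent.UGT.CaseG.Base

/-!
# Case (g), E1: a bad element `x` of `L` normalizes only the member `L`

* `Out.fix`: `B x L`, `x ∈ N(N)` imply `N = L`.
* `Out.isT_of_conj`: the conjugates of the `t`'s commuting with `x` are `t`'s.
-/

set_option autoImplicit false

open Subgroup
open Cfsg.Agent.SignalizersComponents.IntrinsicBasic
open Cfsg.Agent.UGT.ThE.Base
open Cfsg.Agent.UGT.Paired.Basic

namespace Cfsg.Agent.UGT.CaseG.Out

variable {G : Type*} [Group G]

variable {Λ : Set (Subgroup G)} {B : G → Subgroup G → Prop} {Y : Subgroup G → G → Prop} {X : Subgroup G}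
  {L N : Subgroup G} {x : G}

section

variable (H : Out Λ B Y X)
include H

/-- `y ∈ M` commuting with `s t`, `t ∈ K`, commutes with `s` -/
theorem comm_s (hL : L ∈ Λ) {s t y : G} (hs : s ∈ L) (ht : t ∈ centralizer (L : Set G))
    (hy : y ∈ normalizer (L : Set G)) (h : y * (s * t) = s * t * y) : y * s = s * y := by
  have h1 : (y * s * y⁻¹) * (y * t * y⁻¹) = s * t := by
    calc (y * s * y⁻¹) * (y * t * y⁻¹) = y * (s * t) * y⁻¹ := by group
      _ = s * t * y * y⁻¹ := by rw [h]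
      _ = s * t := by group
  have h2 : s⁻¹ * (y * s * y⁻¹) = t * (y * t * y⁻¹)⁻¹ := by
    calc s⁻¹ * (y * s * y⁻¹) = s⁻¹ * ((y * s * y⁻¹) * (y * t * y⁻¹)) * (y * t * y⁻¹)⁻¹ := by group
      _ = _ := by rw [h1]; group
  have h3 : s⁻¹ * (y * s * y⁻¹) = 1 := H.toHyp.disj hL (mul_mem (inv_mem hs) (L_conj hy hs)) (by
    rw [h2]
    exact mul_mem ht (inv_mem (K_conj hy ht)))
  have h4 : y * s * y⁻¹ = s := (inv_mul_eq_one.mp h3).symm
  calc y * s = y * s * y⁻¹ * y := by group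
    _ = s * y := by rw [h4]

variable [Finite G]

/-- `N ≤ C(xt), C(xs), C(xst)` implies `N ~ L` -/
theorem sim_of_le (hB : B x L) (hN : N ∈ Λ) (h : ∀ n ∈ N, n * x = x * n) : Sim N L :=
  H.toHyp.star (H.Bmem hB) hN fun n hn => H.hx hB n (h n hn)

/-- (E1)(iii) -/
theorem sim_pgl (hB : B x L) {x' : G} (hB' : B x' N) (h : x * x' ∈ centralizer (N : Set G)) :
    Sim N L := by
  have hxx := (H.Binv hB).sq
  have hxx' := (H.Binv hB').sq
  have hN := H.Bmem hB'
  have hL := H.Bmem hB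
  obtain ⟨k, hk⟩ : ∃ k, k = x * x' := ⟨_, rfl⟩
  rw [← hk] at h
  have hxi : x⁻¹ = x := inv_eq_of_mul_eq_one_left hxx
  have hxi' : x'⁻¹ = x' := inv_eq_of_mul_eq_one_left hxx'
  have hki : k⁻¹ = x' * x := by rw [hk, mul_inv_rev, hxi, hxi']
  have hxk : x * k * x⁻¹ = k⁻¹ := by
    rw [hki, hk, hxi]
    calc x * (x * x') * x = (x * x) * (x' * x) := by group
      _ = x' * x := by rw [hxx, one_mul]
  have hxz : ∀ j ∈ zpowers k, x * j * x⁻¹ = j⁻¹ := by
    intro j hj
    obtain ⟨n, rfl⟩ := mem_zpowers_iff.mp hj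
    rw [← conj_zpow, hxk, inv_zpow]
  have hzK : ∀ j ∈ zpowers k, j ∈ centralizer (N : Set G) := fun j hj => (zpowers_le.mpr h) hj
  have hxk' : x = k * x' := by rw [hk, mul_assoc, hxx', mul_one]
  rcases Nat.even_or_odd (orderOf k) with hev | hodd
  · obtain ⟨n, hn⟩ := hev
    have hnpos : 0 < n := by
      have := orderOf_pos k
      omega
    obtain ⟨t, htd⟩ : ∃ t, t = k ^ n := ⟨_, rfl⟩
    have htz : t ∈ zpowers k := htd ▸ pow_mem (mem_zpowers k) n
    have htt : t * t = 1 := by rw [htd, ← pow_add, ← hn, pow_orderOf_eq_one]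
    have ht1 : t ≠ 1 := by
      rw [htd]
      intro h
      have := orderOf_le_of_pow_eq_one hnpos h
      omega
    have htx : t * x = x * t := by
      have h1 := hxz t htz
      rw [inv_eq_of_mul_eq_one_left htt] at h1
      calc t * x = (x * t * x⁻¹) * x := by rw [h1]
        _ = x * t := by group
    have htk : t * k = k * t := by rw [htd]; exact ((Commute.refl k).pow_left n)
    have htx' : t * x' = x' * t := by
      have h1 : x' = x * k := by rw [hk, ← mul_assoc, hxx, one_mul]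
      rw [h1]
      calc t * (x * k) = (t * x) * k := by group
        _ = x * (t * k) := by rw [htx]; group
        _ = x * k * t := by rw [htk]; group
    have htT : IsT N x' t := ⟨hzK t htz, htx', htt, ht1⟩
    rcases H.cls' hB (H.tX hB' htT) htx htt ht1 with h1 | ⟨s, hs, t₁, ht₁, h1⟩
    · exact (H.toHyp.n1 hN hL (H.cmp hB' htT) fun l hl => comm_of_mem hl h1.mem).symm
    · obtain ⟨y, hY, hyx', i, hi, hiy⟩ := H.exy hB'
      have hyN := (H.Ymem hY).2.1
      have cen : ∀ a ∈ N, a * x' = x' * a → a * x = x * a := by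
        intro a ha hax
        rw [hxk']
        have h2 := comm_of_mem ha h
        calc a * (k * x') = (a * k) * x' := by group
          _ = k * (a * x') := by rw [h2]; group
          _ = k * x' * a := by rw [hax]; group
      have hyM := H.hx hB y (cen y hyN hyx')
      have hiM := H.hx hB i (cen i hi.mem hi.comm)
      have cs : ∀ a ∈ N, a ∈ normalizer (L : Set G) → a * s = s * a := by
        intro a ha haM
        refine H.comm_s hL hs.mem ht₁.mem haM ?_
        rw [← h1]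
        exact comm_of_mem ha htT.mem
      have hyK := H.tor L hL s hs.mem ⟨hs.sq, hs.ne⟩ N y hY hyM i hiM (cs y hyN hyM) (cs i hi.mem hiM) hiy
      exact (H.toHyp.star hN hL fun l hl => H.H hY l (comm_of_mem hl hyK)).symm
  · obtain ⟨j, hj, hjz⟩ := exists_sqrt hodd
    have h1 := hxz j hjz
    have h3 : x * j⁻¹ * x⁻¹ = j := by
      have := hxz j⁻¹ (inv_mem hjz)
      rwa [inv_inv] at this
    -- `j⁻¹ x j = x'`
    have h2 : j⁻¹ * x * j = x' := by
      have e1 : x' = x * k := by rw [hk, ← mul_assoc, hxx, one_mul]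
      calc j⁻¹ * x * j = j⁻¹ * (x * j * x⁻¹) * x := by group
        _ = j⁻¹ * j⁻¹ * x := by rw [h1]
        _ = (j * j)⁻¹ * x := by rw [mul_inv_rev]
        _ = k⁻¹ * x := by rw [hj]
        _ = x * k * x⁻¹ * x := by
          have h5 : x * k⁻¹ * x⁻¹ = k := by
            have := hxz k⁻¹ (inv_mem (mem_zpowers k))
            rwa [inv_inv] at this
          have h6 : x * k * x⁻¹ = k⁻¹ := hxk
          rw [h6]
        _ = x' := by rw [e1]; group
    have h4 := H.Bcj j⁻¹ x L hB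
    rw [inv_inv, h2] at h4
    have h5 := H.uniq hB' h4
    have h6 : N = L := by
      have h7 : cj j N = N := mem_normalizer_iff_cj.mp (K_le_M (hzK j hjz))
      rw [← h7, h5, cj_cj_inv]
    rw [h6]
    exact Sim.refl L

/-- (E1): `x` normalizes only the member `L`, up to `~` -/
theorem sim_of_norm (hB : B x L) (hN : N ∈ Λ) (hx : x ∈ normalizer (N : Set G)) : Sim N L := by
  have hL := H.Bmem hB
  have hxx := (H.Binv hB).sq
  obtain ⟨g, hg⟩ := H.tr L hL N hN
  obtain ⟨x₁, hx₁⟩ : ∃ x₁, x₁ = g * x * g⁻¹ := ⟨_, rfl⟩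
  have hB₁ : B x₁ N := by
    rw [hx₁, ← hg]
    exact H.Bcj g x L hB
  have hconN : ∀ a, a ∈ normalizer (L : Set G) → g * a * g⁻¹ ∈ normalizer (N : Set G) := by
    intro a ha
    rw [mem_normalizer_iff_cj] at ha ⊢
    rw [← hg, ← cj_mul, inv_mul_cancel_right, cj_mul, ha]
  have hconK : ∀ a, g * a * g⁻¹ ∈ centralizer (N : Set G) → a ∈ centralizer (L : Set G) := by
    intro a ha
    rw [mem_cen] at ha ⊢
    intro l hl
    have h1 := ha (g * l * g⁻¹) (hg ▸ conj_mem_cj hl)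
    have h2 : g * (l * a) * g⁻¹ = g * (a * l) * g⁻¹ := by
      calc g * (l * a) * g⁻¹ = (g * l * g⁻¹) * (g * a * g⁻¹) := by group
        _ = (g * a * g⁻¹) * (g * l * g⁻¹) := h1
        _ = _ := by group
    exact mul_left_cancel (mul_right_cancel h2)
  have hconK' : ∀ a, a ∈ centralizer (L : Set G) → g * a * g⁻¹ ∈ centralizer (N : Set G) := by
    intro a ha
    rw [mem_cen] at ha ⊢
    intro n hn
    rw [← hg, mem_cj] at hn
    have h1 := ha _ hn
    calc n * (g * a * g⁻¹) = g * ((g⁻¹ * n * g) * a) * g⁻¹ := by group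
      _ = g * (a * (g⁻¹ * n * g)) * g⁻¹ := by rw [h1]
      _ = g * a * g⁻¹ * n := by group
  rcases H.inv hB₁ x hx hxx with h | ⟨s₀, hs₀, hss, h⟩ | ⟨l, hl, h⟩ | ⟨v, A, C, hF⟩
  · exact H.sim_of_le hB hN fun n hn => comm_of_mem hn h
  · by_cases hs1 : s₀ = 1
    · rw [hs1, mul_one] at h
      exact H.sim_of_le hB hN fun n hn => comm_of_mem hn h
    have hc : s₀ * x = x * s₀ := by
      have h1 : s₀ * (x * s₀) = x * s₀ * s₀ := comm_of_mem hs₀ h
      have h2 : s₀ * (x * s₀) = s₀ * x * s₀ := by group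
      rw [h2] at h1
      exact mul_right_cancel h1
    rcases H.cls' hB (H.LX N hN hs₀) hc hss hs1 with h1 | ⟨s, hs, t₁, ht₁, h1⟩
    · exact H.sim_of_le (H.mul hB h1) hN fun n hn => comm_of_mem hn h
    · refine H.sim_of_le (H.bad_xst hB hs ht₁) hN fun n hn => ?_
      rw [← h1]
      exact comm_of_mem hn h
  · have h1 := H.Bcj l⁻¹ x₁ N hB₁
    rw [mem_normalizer_iff_cj.mp (L_le_M (inv_mem hl))] at h1
    refine H.sim_pgl hB h1 ?_
    have h2 := K_conj (L_le_M (inv_mem hl)) h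
    have h3 : l⁻¹ * (l * x * l⁻¹ * x₁) * l⁻¹⁻¹ = x * (l⁻¹ * x₁ * l⁻¹⁻¹) := by group
    rwa [h3] at h2
  · -- field type
    have hA : ∀ a ∈ A, a ∈ centralizer (L : Set G) := by
      intro a ha
      apply hconK
      refine hF.dA g (fun b hb => hconN b (H.hx hB b (hF.cA b hb))) (fun b hb => ?_) a ha
      have h1 := hF.cA b hb
      have h2 : g * b * g⁻¹ * x₁ * (g * b * g⁻¹)⁻¹ * x₁⁻¹ = 1 := by
        rw [hx₁]
        calc g * b * g⁻¹ * (g * x * g⁻¹) * (g * b * g⁻¹)⁻¹ * (g * x * g⁻¹)⁻¹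
            = g * (b * x) * b⁻¹ * x⁻¹ * g⁻¹ := by group
          _ = g * (x * b) * b⁻¹ * x⁻¹ * g⁻¹ := by rw [h1]
          _ = 1 := by group
      rw [h2]
      exact one_mem _
    have hv : IsT L x v := ⟨hA v hF.vA, hF.cA v hF.vA, hF.vv, hF.v1⟩
    have hC : ∀ b ∈ C, b ∈ centralizer (L : Set G) := by
      intro b hb
      have hbM : ∀ b ∈ C, b ∈ normalizer (L : Set G) := fun b hb => H.hx (H.mul hB hv) b (hF.cB b hb)
      apply hconK
      refine hF.dB g (fun b hb => hconN b (hbM b hb)) (fun b hb => ?_) b hb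
      have h1 := hF.cB b hb
      have h2 : g * b * g⁻¹ * x₁ * (g * b * g⁻¹)⁻¹ * x₁⁻¹ =
          g * (x * (v * (b * v * b⁻¹)⁻¹) * x⁻¹) * g⁻¹ := by
        rw [hx₁]
        calc g * b * g⁻¹ * (g * x * g⁻¹) * (g * b * g⁻¹)⁻¹ * (g * x * g⁻¹)⁻¹
            = g * (b * (x * v)) * v⁻¹ * b⁻¹ * x⁻¹ * g⁻¹ := by group
          _ = g * (x * v * b) * v⁻¹ * b⁻¹ * x⁻¹ * g⁻¹ := by rw [h1]
          _ = _ := by group
      rw [h2]
      exact hconK' _ (K_conj (H.BN hB) (mul_mem hv.mem (inv_mem (K_conj (hbM b hb) hv.mem))))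
    have hNK : N ≤ centralizer (L : Set G) := hF.gen _ hA hC
    right
    intro n hn l hl
    exact (comm_of_mem hl (hNK hn)).symm

/-- **(E1)** `x` normalizes only the member `L` -/
theorem fix (hB : B x L) (hN : N ∈ Λ) (hx : x ∈ normalizer (N : Set G)) : N = L :=
  H.np hB hN (H.sim_of_norm hB hN hx) hx

/-- `t ^ G ∩ C(x) ≤ K` -/
theorem isT_of_conj (hB : B x L) {t g : G} (ht : IsT L x t)
    (h : g * t * g⁻¹ * x = x * (g * t * g⁻¹)) : IsT L x (g * t * g⁻¹) := by
  have hL := H.Bmem hB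
  have hxx := (H.Binv hB).sq
  obtain ⟨z, hz⟩ : ∃ z, z = g * t * g⁻¹ := ⟨_, rfl⟩
  rw [← hz] at h ⊢
  have hzz : z * z = 1 := by
    rw [hz]
    calc g * t * g⁻¹ * (g * t * g⁻¹) = g * (t * t) * g⁻¹ := by group
      _ = 1 := by rw [ht.sq]; group
  have hz1 : z ≠ 1 := by
    intro h1
    apply ht.ne
    calc t = g⁻¹ * (g * t * g⁻¹) * g := by group
      _ = 1 := by rw [← hz, h1]; group
  refine ⟨?_, h, hzz, hz1⟩
  -- the orbit of `cj g L` under `C(z)`
  obtain ⟨Ω, hΩ⟩ : ∃ Ω : Set (Subgroup G), Ω = {K | ∃ c, c * z = z * c ∧ K = cj c (cj g L)} := ⟨_, rfl⟩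
  have hΩΛ : ∀ K ∈ Ω, K ∈ Λ := by
    rw [hΩ]
    rintro _ ⟨c, -, rfl⟩
    exact H.cl _ (H.cl L hL g) c
  have hact : ∀ c, c * z = z * c → ∀ K ∈ Ω, cj c K ∈ Ω := by
    rw [hΩ]
    rintro c hc _ ⟨d, hd, rfl⟩
    refine ⟨c * d, ?_, (cj_mul c d _).symm⟩
    calc c * d * z = c * (d * z) := by group
      _ = (c * z) * d := by rw [hd]; group
      _ = z * (c * d) := by rw [hc]; group
  -- parity
  have par : ∀ c : G, c * z = z * c → c * c = 1 → ∀ K₀ ∈ Ω, (∀ K ∈ Ω, cj c K = K → K = K₀) →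
      cj c K₀ = K₀ → Odd (Nat.card Ω) := by
    intro c hc hcc K₀ hK₀ huniq hfix
    have : Fintype Ω := Fintype.ofFinite _
    let f : Function.End Ω := fun K => ⟨cj c K.1, hact c hc K.1 K.2⟩
    have hf : f ^ 2 ^ 1 = 1 := by
      rw [pow_one, pow_two]
      funext K
      apply Subtype.ext
      change cj c (cj c K.1) = K.1
      rw [← cj_mul, hcc, cj_one]
    classical
    have h2 : Fact (Nat.Prime 2) := ⟨Nat.prime_two⟩
    have h3 := Equiv.Perm.card_fixedPoints_modEq (p := 2) (n := 1) hf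
    have h4 : Function.fixedPoints f = {⟨K₀, hK₀⟩} := by
      ext K
      constructor
      · intro hK
        have h5 : cj c K.1 = K.1 := congrArg Subtype.val (show f K = K from hK)
        exact Subtype.ext (huniq K.1 K.2 h5)
      · rintro rfl
        exact Subtype.ext hfix
    have h5 : Fintype.card (Function.fixedPoints f) = 1 := by
      rw [← Nat.card_eq_fintype_card, h4]
      exact Nat.card_unique
    rw [h5, ← Nat.card_eq_fintype_card] at h3
    exact Nat.odd_iff.mpr h3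
  have hodd : Odd (Nat.card Ω) := by
    refine par (g * x * g⁻¹) ?_ ?_ (cj g L) ?_ ?_ ?_
    · rw [hz]
      have h1 := ht.comm
      calc g * x * g⁻¹ * (g * t * g⁻¹) = g * (x * t) * g⁻¹ := by group
        _ = g * (t * x) * g⁻¹ := by rw [h1]
        _ = _ := by group
    · calc g * x * g⁻¹ * (g * x * g⁻¹) = g * (x * x) * g⁻¹ := by group
        _ = 1 := by rw [hxx]; group
    · rw [hΩ]
      exact ⟨1, by simp, (cj_one _).symm⟩
    · intro K hK hfix
      exact H.fix (H.Bcj g x L hB) (hΩΛ K hK) (mem_normalizer_iff_cj.mpr hfix)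
    · exact mem_normalizer_iff_cj.mp (H.BN (H.Bcj g x L hB))
  have hex : ∃ K ∈ Ω, cj x K = K := by
    by_contra hno
    push Not at hno
    have : Fintype Ω := Fintype.ofFinite _
    let f : Function.End Ω := fun K => ⟨cj x K.1, hact x h.symm K.1 K.2⟩
    have hf : f ^ 2 ^ 1 = 1 := by
      rw [pow_one, pow_two]
      funext K
      apply Subtype.ext
      change cj x (cj x K.1) = K.1
      rw [← cj_mul, hxx, cj_one]
    classical
    have h2 : Fact (Nat.Prime 2) := ⟨Nat.prime_two⟩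
    have h3 := Equiv.Perm.card_fixedPoints_modEq (p := 2) (n := 1) hf
    have h4 : IsEmpty (Function.fixedPoints f) := ⟨fun K => hno K.1.1 K.1.2
      (congrArg Subtype.val (show f K.1 = K.1 from K.2))⟩
    have h5 : Fintype.card (Function.fixedPoints f) = 0 := Fintype.card_eq_zero
    rw [h5, ← Nat.card_eq_fintype_card] at h3
    have h6 := Nat.odd_iff.mp hodd
    rw [Nat.ModEq, h6] at h3
    norm_num at h3
  obtain ⟨K, hK, hxK⟩ := hex
  have hKL := H.fix hB (hΩΛ K hK) (mem_normalizer_iff_cj.mpr hxK)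
  rw [hΩ] at hK
  obtain ⟨c, hc, hKc⟩ := hK
  rw [hKL] at hKc
  rw [hKc, mem_cen]
  intro l hl
  rw [mem_cj, mem_cj] at hl
  have h1 := mem_cen.mp ht.mem _ hl
  have h2 : c⁻¹ * z = z * c⁻¹ := by
    calc c⁻¹ * z = c⁻¹ * (z * c) * c⁻¹ := by group
      _ = c⁻¹ * (c * z) * c⁻¹ := by rw [hc]
      _ = z * c⁻¹ := by group
  calc l * z = c * (g * ((g⁻¹ * (c⁻¹ * l * c) * g)) * g⁻¹) * (c⁻¹ * z) := by group
    _ = c * (g * ((g⁻¹ * (c⁻¹ * l * c) * g)) * g⁻¹) * (z * c⁻¹) := by rw [h2]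
    _ = c * (g * ((g⁻¹ * (c⁻¹ * l * c) * g) * t) * g⁻¹) * c⁻¹ := by rw [hz]; group
    _ = c * (g * (t * (g⁻¹ * (c⁻¹ * l * c) * g)) * g⁻¹) * c⁻¹ := by rw [h1]
    _ = c * z * (c⁻¹ * l) := by rw [hz]; group
    _ = z * l := by rw [hc]; group

end

end Cfsg.Agent.UGT.CaseG.Out
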