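import Cfsg.Agent.UGT.Res.FldCens

/-!
# `PSL(2,9)` is generated by the elements of order three commuting with `α` or with `α v`

`α` an involutory field automorphism of `PSL(2,9)`, `v` an involution fixed by `α`.
-/

set_option autoImplicit false

namespace Cfsg.Agent.UGT.CaseG.Gen3

open Matrix Subgroup Cfsg.Agent.GH.L2Aut Cfsg.Agent.Lib.SL2Mat Cfsg.Agent.Lib.AutSL2
open Cfsg.Agent.UGT.Res.FldGen Cfsg.Agent.UGT.Res.FldCens Cfsg.Agent.OddHalf.D6
open Cfsg.Agent.GH.L2Aut.Rep (inc exists_inc inc_val)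

variable {L : Type*} [Group L]

/-- every subgroup containing the fixed points `y` of `α` and of `α ∘ conj v` with `y ^ 3 = 1` is everything -/
def Gen3 (α : MulAut L) (v : L) : Prop :=
  ∀ H : Subgroup L, (∀ y, y ^ 3 = 1 → α y = y → y ∈ H) →
    (∀ y, y ^ 3 = 1 → α (v * y * v⁻¹) = y → y ∈ H) → H = ⊤

theorem Gen3.conj {α : MulAut L} {v a : L} (ha : α a = a) (h : Gen3 α (a * v * a⁻¹)) : Gen3 α v := by
  intro H h1 h2
  have h3 : H.map (MulAut.conj a).toMonoidHom = ⊤ := by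
    have hmem : ∀ y : L, a⁻¹ * y * a ∈ H → y ∈ H.map (MulAut.conj a).toMonoidHom := by
      intro y hy
      refine ⟨_, hy, ?_⟩
      simp only [MulEquiv.coe_toMonoidHom, MulAut.conj_apply]
      group
    have hcub : ∀ y : L, y ^ 3 = 1 → (a⁻¹ * y * a) ^ 3 = 1 := by
      intro y hy
      have e : a⁻¹ * y * a = a⁻¹ * y * a⁻¹⁻¹ := by rw [inv_inv]
      rw [e, conj_pow, hy]
      group
    refine h _ (fun y hy hαy => hmem y (h1 _ (hcub y hy) ?_)) (fun y hy hαy => hmem y (h2 _ (hcub y hy) ?_))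
    · rw [map_mul, map_mul, map_inv, ha, hαy]
    · have e1 : a * v * a⁻¹ * y * (a * v * a⁻¹)⁻¹ = a * (v * (a⁻¹ * y * a) * v⁻¹) * a⁻¹ := by group
      rw [e1, map_mul, map_mul, map_inv, ha] at hαy
      calc α (v * (a⁻¹ * y * a) * v⁻¹) = a⁻¹ * (a * α (v * (a⁻¹ * y * a) * v⁻¹) * a⁻¹) * a := by group
        _ = a⁻¹ * y * a := by rw [hαy]
  rw [eq_top_iff]
  intro y _
  have h4 : a * y * a⁻¹ ∈ H.map (MulAut.conj a).toMonoidHom := by rw [h3]; exact mem_top _
  obtain ⟨w, hw, hwy⟩ := h4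
  simp only [MulEquiv.coe_toMonoidHom, MulAut.conj_apply] at hwy
  have h5 : w = y := mul_left_cancel (mul_right_cancel hwy)
  rw [← h5]
  exact hw

variable {F : Type*} [Field F] [Finite F] (R : Cfsg.Agent.GH.L2Aut.Rep F L)

section fix

variable {K : Subfield F} {σ : F ≃+* F}

theorem three_eq (h3 : Nat.card K = 3) : (3 : F) = 0 := by
  have := Fintype.ofFinite K
  have h1 := FiniteField.cast_card_eq_zero K
  rw [← Nat.card_eq_fintype_card, h3] at h1
  have h2 : (((3 : ℕ) : K) : F) = 0 := by rw [h1]; rfl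
  rw [SubringClass.coe_natCast] at h2
  exact_mod_cast h2

theorem up_cube (h : (3 : F) = 0) (a : F) : R.π (up a) ^ 3 = 1 := by
  rw [← map_pow]
  have h1 : (up a : Matrix.SpecialLinearGroup (Fin 2) F) ^ 3 = 1 := by
    rw [pow_succ, pow_two, up_mul, up_mul]
    have : a + a + a = 0 := by linear_combination a * h
    rw [this, up_zero]
  rw [h1, map_one]

theorem lo_cube (h : (3 : F) = 0) (a : F) : R.π (lo a) ^ 3 = 1 := by
  rw [← map_pow]
  have h1 : (lo a : Matrix.SpecialLinearGroup (Fin 2) F) ^ 3 = 1 := by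
    rw [pow_succ, pow_two, lo_mul, lo_mul]
    have : a + a + a = 0 := by linear_combination a * h
    rw [this, lo_zero]
  rw [h1, map_one]

theorem sub_le (hK : ∀ a, a ∈ K ↔ σ a = a) (h3 : Nat.card K = 3) {H : Subgroup L}
    (h1 : ∀ y, y ^ 3 = 1 → R.fa σ y = y → y ∈ H) : R.sub K ≤ H := by
  rintro _ ⟨x, rfl⟩
  have hF := three_eq h3
  obtain ⟨a, b, c, d, rfl⟩ := exists_up_lo x
  have hu : ∀ a : K, R.π (inc K (up a)) ∈ H := by
    intro a
    have e : inc K (up a) = up (a : F) := by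
      apply Subtype.ext
      apply mat_ext <;> rfl
    rw [e]
    exact h1 _ (up_cube R hF _) (R.sub_le_fix hK (up_mem_sub R K a.2))
  have hl : ∀ a : K, R.π (inc K (lo a)) ∈ H := by
    intro a
    have e : inc K (lo a) = lo (a : F) := by
      apply Subtype.ext
      apply mat_ext <;> rfl
    rw [e]
    exact h1 _ (lo_cube R hF _) (R.sub_le_fix hK (lo_mem_sub R K a.2))
  change R.π (inc K (up a * lo b * up c * lo d)) ∈ H
  rw [map_mul, map_mul, map_mul, map_mul, map_mul, map_mul]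
  exact mul_mem (mul_mem (mul_mem (hu a) (hl b)) (hu c)) (hl d)

theorem gen3_J (hσ : orderOf σ = 2) (hK : ∀ a, a ∈ K ↔ σ a = a)
    (hcard : Nat.card F = Nat.card K ^ orderOf σ) (h3 : Nat.card K = 3) : Gen3 (R.fa σ) (R.π J) := by
  intro H h1 h2
  obtain ⟨v, hv⟩ : ∃ v, v = R.π J := ⟨_, rfl⟩
  have hvK : v ∈ R.sub K := hv ▸ J_mem_sub R K
  have hvv : v * v = 1 := hv ▸ πJ_sq R
  obtain ⟨α, hα⟩ : ∃ α, α = R.fa σ := ⟨_, rfl⟩
  have hσ2 : σ * σ = 1 := by rw [← sq, ← hσ, pow_orderOf_eq_one]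
  have hαα : α * α = 1 := by rw [hα, ← map_mul, hσ2, map_one]
  have hαf : R.fld α = σ := by rw [hα, R.fld_fa]
  have hαv : α v = v := by rw [hα]; exact R.sub_le_fix hK hvK
  obtain ⟨β, hβ⟩ : ∃ β, β = α * MulAut.conj v := ⟨_, rfl⟩
  have hcv : MulAut.conj v * α = α * MulAut.conj v :=
    Cfsg.Agent.GH.L2Aut.Rep.conj_comm_iff.mpr (congrArg _ hαv)
  have hββ : β * β = 1 := by
    calc β * β = α * (MulAut.conj v * α) * MulAut.conj v := by rw [hβ]; group
      _ = (α * α) * MulAut.conj (v * v) := by rw [hcv, map_mul]; group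
      _ = 1 := by rw [hαα, hvv, map_one, one_mul]
  have hβf : R.fld β = σ := by
    rw [hβ, map_mul, hαf, R.mem_PGL_iff_fld.1 (R.conj_mem_PGL v), mul_one]
  obtain ⟨R', -, -, hR'⟩ := R.exists_rep β (by rw [hβf, hσ, sq, hββ])
  rw [hβf] at hR'
  refine gen_J R hσ hK hcard (sub_le R hK h3 h1) fun c hc => ?_
  refine sub_le R' hK h3 (H := H) (fun y hy hy2 => h2 y hy ?_)
    (sq_mem R' (by rw [hσ]; decide) hK hcard ?_)
  · rw [← hR', hβ, MulAut.mul_apply, MulAut.conj_apply, hα, hv] at hy2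
    exact hy2
  · rw [← hR', hβ, MulAut.mul_apply, MulAut.conj_apply, hα, hv]
    exact hc

theorem gen3_inner (hσ : orderOf σ = 2) (hK : ∀ a, a ∈ K ↔ σ a = a)
    (hcard : Nat.card F = Nat.card K ^ orderOf σ) (h3 : Nat.card K = 3) {v : L} (hvv : v * v = 1)
    (hv1 : v ≠ 1) (hv : v ∈ R.sub K) : Gen3 (R.fa σ) v := by
  have hJ := J_mem_sub R K
  obtain ⟨⟨g, hg⟩, h⟩ := (R.subRep K).inv_conj (s := ⟨v, hv⟩) (t := ⟨R.π J, hJ⟩) (Subtype.ext hvv)
    (fun h => hv1 (congrArg Subtype.val h)) (Subtype.ext (πJ_sq R))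
    (fun h => πJ_ne R (congrArg Subtype.val h))
  have h1 : g * v * g⁻¹ = R.π J := congrArg Subtype.val h
  refine Gen3.conj (a := g) (R.sub_le_fix hK hg) ?_
  rw [h1]
  exact gen3_J R hσ hK hcard h3

/-- `diag(i, -i)` -/
theorem gen3_diag (hσ : orderOf σ = 2) (hK : ∀ a, a ∈ K ↔ σ a = a) (h3 : Nat.card K = 3) {i : F}
    (hi : i * -i - 0 * 0 = 1) (hσi : σ i = -i) : Gen3 (R.fa σ) (R.π (mk i 0 0 (-i) hi)) := by
  have hF := three_eq h3
  have hσ2 : ∀ a, σ (σ a) = a := by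
    intro a
    have h3 : σ * σ = 1 := by rw [← sq, ← hσ, pow_orderOf_eq_one]
    exact congrArg (fun τ : F ≃+* F => τ a) h3
  have hi0 : i ≠ 0 := by
    rintro rfl
    rw [neg_zero, mul_zero, sub_zero] at hi
    exact zero_ne_one hi
  have hne : σ i ≠ i := by
    rw [hσi]
    intro h
    have h4 : (2 : F) * i = 0 := by linear_combination -h
    exact mul_ne_zero R.two hi0 h4
  intro H h1 h2
  have hsub : R.sub K ≤ H := sub_le R hK h3 h1
  have hconj : ∀ x y : Matrix.SpecialLinearGroup (Fin 2) F, mk i 0 0 (-i) hi * x = y * mk i 0 0 (-i) hi →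
      fieldAut σ y = x → R.π x ^ 3 = 1 → R.π x ∈ H := by
    intro x y hxy hy hx3
    apply h2 _ hx3
    rw [← map_inv, ← map_mul, ← map_mul, R.fa_apply, hxy, mul_inv_cancel_right, hy]
  refine eq_top R ?_ ?_
  · intro f
    obtain ⟨k, hk, l, hl, rfl⟩ := exists_add hσ2 hK hne f
    rw [← up_mul, map_mul]
    refine mul_mem (hsub (up_mem_sub R K hk)) ?_
    refine hconj _ (up (-(i * l))) ?_ ?_ (up_cube R hF _)
    · refine ext_ent ?_ ?_ ?_ ?_
      · rw [ent_mul, ent_mul]; change i * 1 + 0 * 0 = 1 * i + -(i * l) * 0; ring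
      · rw [ent_mul, ent_mul]; change i * (i * l) + 0 * 1 = 1 * 0 + -(i * l) * -i; ring
      · rw [ent_mul, ent_mul]; change 0 * 1 + -i * 0 = 0 * i + 1 * 0; ring
      · rw [ent_mul, ent_mul]; change 0 * (i * l) + -i * 1 = 0 * 0 + 1 * -i; ring
    · rw [up, fieldAut_mk]
      refine ext_ent (map_one σ) ?_ (map_zero σ) (map_one σ)
      change σ (-(i * l)) = i * l
      rw [map_neg, map_mul, hσi, (hK l).1 hl]; ring
  · intro f
    obtain ⟨k, hk, l, hl, rfl⟩ := exists_add hσ2 hK hne f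
    rw [← lo_mul, map_mul]
    refine mul_mem (hsub (lo_mem_sub R K hk)) ?_
    refine hconj _ (lo (-(i * l))) ?_ ?_ (lo_cube R hF _)
    · refine ext_ent ?_ ?_ ?_ ?_
      · rw [ent_mul, ent_mul]; change i * 1 + 0 * (i * l) = 1 * i + 0 * 0; ring
      · rw [ent_mul, ent_mul]; change i * 0 + 0 * 1 = 1 * 0 + 0 * -i; ring
      · rw [ent_mul, ent_mul]; change 0 * 1 + -i * (i * l) = -(i * l) * i + 1 * 0; ring
      · rw [ent_mul, ent_mul]; change 0 * 0 + -i * 1 = -(i * l) * 0 + 1 * -i; ring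
    · rw [lo, fieldAut_mk]
      refine ext_ent (map_one σ) (map_zero σ) ?_ (map_one σ)
      change σ (-(i * l)) = i * l
      rw [map_neg, map_mul, hσi, (hK l).1 hl]; ring

/-- involutions fixed by `fa σ` outside `sub K`, `|K| = 3` -/
theorem gen3_outer (hσ : orderOf σ = 2) (hK : ∀ a, a ∈ K ↔ σ a = a)
    (hcard : Nat.card F = Nat.card K ^ orderOf σ) (h3 : Nat.card K = 3) {v : L} (hvv : v * v = 1)
    (hv1 : v ≠ 1) (hv : v ∉ R.sub K) (hσv : R.fa σ v = v) : Gen3 (R.fa σ) v := by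
  obtain ⟨i, hii, hσi⟩ := exists_i R.two hσ hK hcard h3
  obtain ⟨V, rfl, hVV⟩ := R.exists_inv_lift hvv hv1
  have hfV : fieldAut σ V = -V := by
    rcases R.mem_fix_fa.1 (mem_fixSub.2 hσv) with h | h
    · obtain ⟨y, rfl⟩ := exists_inc hK h
      exact absurd ⟨y, rfl⟩ hv
    · exact h
  have hVtr := tr_zero_of_sq hVV
  have hV : ∀ k l, -i * V.1 k l ∈ K := by
    intro k l
    have h1 : σ (V.1 k l) = -V.1 k l := congrFun (congrFun (congrArg Subtype.val hfV) k) l
    rw [hK, map_mul, map_neg, hσi, h1]; ring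
  obtain ⟨V', hV'⟩ : ∃ V' : Matrix (Fin 2) (Fin 2) K, ∀ k l, ((V' k l : K) : F) = -i * V.1 k l :=
    ⟨Matrix.of fun k l => ⟨-i * V.1 k l, hV k l⟩, fun _ _ => rfl⟩
  have htr : V'.trace = 0 := by
    apply Subtype.ext
    rw [Matrix.trace_fin_two] at hVtr ⊢
    change (V' 0 0 : F) + V' 1 1 = 0
    rw [hV', hV']
    linear_combination (-i) * hVtr
  have hdet : V'.det = -1 := by
    apply Subtype.ext
    rw [Matrix.det_fin_two]
    change (V' 0 0 : F) * V' 1 1 - V' 0 1 * V' 1 0 = ((-1 : K) : F)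
    have h4 := V.2
    rw [Matrix.det_fin_two] at h4
    have h5 : ((-1 : K) : F) = -1 := by simp
    rw [hV', hV', hV', hV', h5]
    linear_combination (i * i) * h4 + hii
  obtain ⟨B, hB⟩ : ∃ B : Matrix (Fin 2) (Fin 2) K, B = !![1, 0; 0, -1] := ⟨_, rfl⟩
  have hBtr : B.trace = 0 := by rw [hB, Matrix.trace_fin_two]; simp
  have hBdet : B.det = -1 := by rw [hB, Matrix.det_fin_two_of]; ring
  have h2K := two_sub R.two K
  have hns : ∀ A : Matrix (Fin 2) (Fin 2) K, A.trace = 0 → A.det = -1 →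
      ∀ c : K, A ≠ c • (1 : Matrix (Fin 2) (Fin 2) K) := by
    rintro A h4 h5 c rfl
    rw [Matrix.trace_smul, Matrix.trace_one, Fintype.card_fin, smul_eq_mul] at h4
    have h6 : c = 0 := (mul_eq_zero.1 h4).resolve_right (by exact_mod_cast h2K)
    rw [h6, zero_smul, Matrix.det_fin_two] at h5
    simp at h5
  obtain ⟨g, hg⟩ := mat_conj (hns V' htr hdet) (hns B hBtr hBdet) (htr.trans hBtr.symm)
    (hdet.trans hBdet.symm)
  have hg0 : g.1.det ≠ 0 := fun h => (Matrix.GeneralLinearGroup.det g).ne_zero h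
  obtain ⟨h, hh⟩ : ∃ h : Matrix.SpecialLinearGroup (Fin 2) K,
      h.1 = !![(g.1.det)⁻¹, 0; 0, 1] * g.1 := ⟨⟨!![(g.1.det)⁻¹, 0; 0, 1] * g.1, by
        rw [Matrix.det_mul, Matrix.det_fin_two_of, mul_one, mul_zero, sub_zero, inv_mul_cancel₀ hg0]⟩, rfl⟩
  have hhV : h.1 * V' = B * h.1 := by
    have h4 : !![(g.1.det)⁻¹, 0; 0, 1] * B = B * !![(g.1.det)⁻¹, 0; 0, 1] := by
      rw [hB]
      apply mat_ext <;> simp [mat_mul]
    rw [hh, Matrix.mul_assoc, hg, ← Matrix.mul_assoc, h4, Matrix.mul_assoc]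
  have hi : i * -i - 0 * 0 = 1 := by linear_combination -hii
  refine Gen3.conj (a := R.π (inc K h)) (R.sub_le_fix hK ⟨h, rfl⟩) ?_
  have h4 : R.π (inc K h) * R.π V * (R.π (inc K h))⁻¹ = R.π (mk i 0 0 (-i) hi) := by
    rw [← map_inv, ← map_mul, ← map_mul]
    congr 1
    rw [mul_inv_eq_iff_eq_mul]
    have hV2 : ∀ k l, V.1 k l = i * (V' k l : F) := by
      intro k l
      rw [hV']
      linear_combination (V.1 k l) * hii
    have hent : ∀ k l, h.1 k 0 * V' 0 l + h.1 k 1 * V' 1 l = B k 0 * h.1 0 l + B k 1 * h.1 1 l := by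
      intro k l
      rw [← mat_mul, ← mat_mul, hhV]
    have hentF : ∀ k l, (h.1 k 0 : F) * V' 0 l + h.1 k 1 * V' 1 l = B k 0 * h.1 0 l + B k 1 * h.1 1 l :=
      fun k l => congrArg Subtype.val (hent k l)
    have hB00 : ((B 0 0 : K) : F) = 1 := by rw [hB]; rfl
    have hB01 : ((B 0 1 : K) : F) = 0 := by rw [hB]; rfl
    have hB10 : ((B 1 0 : K) : F) = 0 := by rw [hB]; rfl
    have hB11 : ((B 1 1 : K) : F) = -1 := by rw [hB]; simp
    apply Subtype.ext
    apply mat_ext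
    · change ((inc K h).1 * V.1) 0 0 = ((mk i 0 0 (-i) hi).1 * (inc K h).1) 0 0
      rw [mat_mul, mat_mul]
      simp only [inc_val]
      rw [hV2, hV2]
      change _ = i * _ + 0 * _
      have := hentF 0 0
      rw [hB00, hB01] at this
      linear_combination i * this
    · change ((inc K h).1 * V.1) 0 1 = ((mk i 0 0 (-i) hi).1 * (inc K h).1) 0 1
      rw [mat_mul, mat_mul]
      simp only [inc_val]
      rw [hV2, hV2]
      change _ = i * _ + 0 * _
      have := hentF 0 1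
      rw [hB00, hB01] at this
      linear_combination i * this
    · change ((inc K h).1 * V.1) 1 0 = ((mk i 0 0 (-i) hi).1 * (inc K h).1) 1 0
      rw [mat_mul, mat_mul]
      simp only [inc_val]
      rw [hV2, hV2]
      change _ = 0 * _ + -i * _
      have := hentF 1 0
      rw [hB10, hB11] at this
      linear_combination i * this
    · change ((inc K h).1 * V.1) 1 1 = ((mk i 0 0 (-i) hi).1 * (inc K h).1) 1 1
      rw [mat_mul, mat_mul]
      simp only [inc_val]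
      rw [hV2, hV2]
      change _ = 0 * _ + -i * _
      have := hentF 1 1
      rw [hB10, hB11] at this
      linear_combination i * this
  rw [h4]
  exact gen3_diag R hσ hK h3 hi hσi

/-- all involutions fixed by `fa σ`, `|K| = 3` -/
theorem gen3 (hσ : orderOf σ = 2) (hK : ∀ a, a ∈ K ↔ σ a = a)
    (hcard : Nat.card F = Nat.card K ^ orderOf σ) (h3 : Nat.card K = 3) {v : L} (hvv : v * v = 1)
    (hv1 : v ≠ 1) (hσv : R.fa σ v = v) : Gen3 (R.fa σ) v := by
  by_cases hv : v ∈ R.sub K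
  · exact gen3_inner R hσ hK hcard h3 hvv hv1 hv
  · exact gen3_outer R hσ hK hcard h3 hvv hv1 hv hσv

end fix

/-- `|F| < 11` -/
theorem gen3_small (hF : Nat.card F < 11) {α : MulAut L} (hα : α * α = 1) (hf : R.fld α ≠ 1) {v : L}
    (hvv : v * v = 1) (hv1 : v ≠ 1) (hαv : α v = v) : Gen3 α v := by
  obtain ⟨R', -, -, hR', hσ⟩ := R.ftype_rep (fun h => hf (R.mem_PGL_iff_fld.1 h)) hα
  obtain ⟨K, hK, hcard⟩ := Cfsg.Agent.GH.L2Aut.exists_fixed_field (R.fld α)
  have h3 : Nat.card K = 3 := by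
    have h4 : Odd (Nat.card K) := odd_card (two_sub R.two K)
    have h5 : 1 < Nat.card K := Finite.one_lt_card
    rw [hcard, hσ] at hF
    obtain ⟨k, hk⟩ := h4
    by_contra h6
    have h7 : 5 ≤ Nat.card K := by omega
    have h8 : 5 ^ 2 ≤ Nat.card K ^ 2 := Nat.pow_le_pow_left h7 2
    omega
  rw [hR'] at hαv ⊢
  exact gen3 R' hσ hK hcard h3 hvv hv1 hαv

end Cfsg.Agent.UGT.CaseG.Gen3
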