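import Cfsg.Agent.UGT.CaseG.Fix

/-!
# Case (g), TIGHT: `C(s) ≤ N(L)` for the involutions `s` of `L`

* `Out.e6`: `v`, `t₁ ∈ C_K(x)`, `s ∈ C_L(x)`, `m ∈ C(s t₁)`, `v ∈ C(s t₁)`: `L ^ (v ^ m) ~ L`.
* `Out.no_swap`: `v` does not act as `s` on a member containing `s`.
* `Out.ti`, `Out.ctrl`: the members meet in subgroups of odd order; `C(u) ≤ N(L)`.
-/

set_option autoImplicit false

open Subgroup
open Cfsg.Agent.SignalizersComponents.IntrinsicBasic
open Cfsg.Agent.UGT.ThE.Base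
open Cfsg.Agent.UGT.Paired.Basic

namespace Cfsg.Agent.UGT.CaseG.Out

variable {G : Type*} [Group G]

variable {Λ : Set (Subgroup G)} {B : G → Subgroup G → Prop} {Y : Subgroup G → G → Prop} {X : Subgroup G}
  {L N : Subgroup G} {x : G}

section

variable [Finite G] (H : Out Λ B Y X)
include H

/-- (E6) -/
theorem e6 (hB : B x L) {s t₁ v m : G} (hs : IsS L x s) (ht₁ : IsT1 L x t₁) (hv : IsT L x v)
    (hvc : v * (s * t₁) = s * t₁ * v) (hm : m * (s * t₁) = s * t₁ * m) :
    Sim L (cj (m * v * m⁻¹) L) := by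
  have hL := H.Bmem hB
  have hxx := (H.Binv hB).sq
  obtain ⟨t₀, ht₀⟩ : ∃ t₀, t₀ = s * t₁ := ⟨_, rfl⟩
  rw [← ht₀] at hvc hm
  obtain ⟨z, hz⟩ : ∃ z, z = m * v * m⁻¹ := ⟨_, rfl⟩
  rw [← hz]
  have hzz : z * z = 1 := by
    rw [hz]
    calc m * v * m⁻¹ * (m * v * m⁻¹) = m * (v * v) * m⁻¹ := by group
      _ = 1 := by rw [hv.sq]; group
  have hzX : z ∈ X := hz ▸ H.XN.conj_mem v (H.tX hB hv) m
  have hzt : t₀ * z = z * t₀ := by
    rw [hz]
    calc t₀ * (m * v * m⁻¹) = (t₀ * m) * v * m⁻¹ := by group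
      _ = m * (t₀ * v) * m⁻¹ := by rw [← hm]; group
      _ = m * v * (t₀ * m⁻¹) := by rw [← hvc]; group
      _ = m * v * (m⁻¹ * (m * t₀) * m⁻¹) := by group
      _ = m * v * (m⁻¹ * (t₀ * m) * m⁻¹) := by rw [hm]
      _ = m * v * m⁻¹ * t₀ := by group
  have hst : s * t₁ = t₁ * s := comm_of_mem hs.mem ht₁.mem
  have htx : t₀ * x = x * t₀ := by
    rw [ht₀]
    calc s * t₁ * x = s * (t₁ * x) := by group
      _ = (s * x) * t₁ := by rw [ht₁.comm]; group
      _ = x * (s * t₁) := by rw [hs.comm]; group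
  have norm : ∀ c ∈ normalizer (L : Set G), Sim L (cj c L) := by
    intro c hc
    rw [mem_normalizer_iff_cj.mp hc]
    exact Sim.refl L
  obtain ⟨e, hee, he1, hec, hex, hez, h⟩ := Cfsg.Agent.UGT.ThE.Link.link H.XN hxx (H.xX hB) hzz hzX
  have het : t₀ * e = e * t₀ := hec t₀ htx hzt
  rcases h with ⟨heX, h, hh⟩ | ⟨heX, h, hh⟩
  · rcases H.cls' hB heX hex hee he1 with h1 | ⟨s', hs', t', ht', h1⟩
    · exact H.cmp hB h1 z hez.symm
    · have c1 : s * s' = s' * s := by
        have h2 : (s' * s)⁻¹ * (s * s') = t' * t₁ * (t₁ * t')⁻¹ := by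
          have h3 : (s * s') * (t₁ * t') = (s' * s) * (t' * t₁) := by
            calc (s * s') * (t₁ * t') = s * (s' * t₁) * t' := by group
              _ = s * (t₁ * s') * t' := by rw [comm_of_mem hs'.mem ht₁.mem]
              _ = t₀ * e := by rw [ht₀, h1]; group
              _ = e * t₀ := het
              _ = s' * (t' * s) * t₁ := by rw [ht₀, h1]; group
              _ = s' * (s * t') * t₁ := by rw [comm_of_mem hs.mem ht'.mem]
              _ = _ := by group
          calc (s' * s)⁻¹ * (s * s') = (s' * s)⁻¹ * ((s * s') * (t₁ * t')) * (t₁ * t')⁻¹ := by group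
            _ = (s' * s)⁻¹ * ((s' * s) * (t' * t₁)) * (t₁ * t')⁻¹ := by rw [h3]
            _ = _ := by group
        have h3 : (s' * s)⁻¹ * (s * s') = 1 := H.toHyp.disj hL
          (mul_mem (inv_mem (mul_mem hs'.mem hs.mem)) (mul_mem hs.mem hs'.mem)) (by
            rw [h2]
            exact mul_mem (mul_mem ht'.mem ht₁.mem) (inv_mem (mul_mem ht₁.mem ht'.mem)))
        exact (inv_mul_eq_one.mp h3).symm
      have c2 := H.comm hB s s' hs hs' c1
      rw [← c2] at h1
      have c3 : t' * t₁ = t₁ * t' := by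
        apply mul_left_cancel (a := s * s)
        calc s * s * (t' * t₁) = s * (s * t') * t₁ := by group
          _ = s * (t' * s) * t₁ := by rw [comm_of_mem hs.mem ht'.mem]
          _ = (s * t') * (s * t₁) := by group
          _ = t₀ * e := by rw [← h1, ← ht₀, het]
          _ = s * (t₁ * s) * t' := by rw [ht₀, h1]; group
          _ = s * s * (t₁ * t') := by rw [← hst]; group
      by_cases hne : t' = t₁
      · exfalso
        have h2 : e = t₀ := by rw [h1, hne, ht₀]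
        rw [h2] at hh
        have h3 : (m⁻¹ * h * m) * v * (m⁻¹ * h * m)⁻¹ = v * t₀ := by
          calc (m⁻¹ * h * m) * v * (m⁻¹ * h * m)⁻¹ = m⁻¹ * (h * (m * v * m⁻¹) * h⁻¹) * m := by group
            _ = m⁻¹ * (z * t₀) * m := by rw [← hz, hh]
            _ = m⁻¹ * (m * v * m⁻¹) * (t₀ * m) := by rw [hz]; group
            _ = m⁻¹ * (m * v * m⁻¹) * (m * t₀) := by rw [hm]
            _ = v * t₀ := by group
        have h4 := H.isT_of_conj hB hv (g := m⁻¹ * h * m) (by
          rw [h3]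
          calc v * t₀ * x = v * (t₀ * x) := by group
            _ = (v * x) * t₀ := by rw [htx]; group
            _ = x * (v * t₀) := by rw [hv.comm]; group)
        have h5 : v * t₀ ∈ centralizer (L : Set G) := h3 ▸ h4.mem
        have h6 : s ∈ centralizer (L : Set G) := by
          have : s = v⁻¹ * (v * t₀) * t₁⁻¹ := by rw [ht₀]; group
          rw [this]
          exact mul_mem (mul_mem (inv_mem hv.mem) h5) (inv_mem ht₁.mem)
        exact hs.ne (H.toHyp.disj hL hs.mem h6)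
      · have h2 : IsT L x (t' * t₁) := by
          refine (ht'.mul ht₁ c3).isT ?_
          intro h3
          apply hne
          rw [eq_inv_of_mul_eq_one_left h3, inv_eq_of_mul_eq_one_left ht₁.sq]
        apply H.cmp hB h2
        have h3 : e * t₀ = t' * t₁ := by
          rw [h1, ht₀]
          calc s * t' * (s * t₁) = s * (t' * s) * t₁ := by group
            _ = (s * s) * (t' * t₁) := by rw [← comm_of_mem hs.mem ht'.mem]; group
            _ = t' * t₁ := by rw [hs.sq, one_mul]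
        rw [← h3]
        calc z * (e * t₀) = (z * e) * t₀ := by group
          _ = e * (z * t₀) := by rw [← hez]; group
          _ = e * t₀ * z := by rw [← hzt]; group
  · -- `e ∉ X`
    have h1 : (h * m) * v * (h * m)⁻¹ = x * e := by rw [← hh, hz]; group
    have h2 := H.isT_of_conj hB hv (g := h * m) (by
      rw [h1]
      calc x * e * x = x * (e * x) := by group
        _ = x * (x * e) := by rw [hex])
    rw [h1] at h2
    apply norm
    refine H.hx (H.mul hB h2) z ?_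
    have h4 : x * (x * e) = e := by rw [← mul_assoc, hxx, one_mul]
    rw [h4]
    exact hez.symm

omit [Finite G] in
/-- an odd element of `L` inverted by `s` -/
theorem exists_odd (hL : L ∈ Λ) {s : G} (hs : s ∈ L) (hi : Inv s) :
    ∃ y ∈ L, y ≠ 1 ∧ Odd (orderOf y) ∧ s * y * s⁻¹ = y⁻¹ := by
  obtain ⟨x, hB⟩ := H.ex L hL
  obtain ⟨y, hY, -, s₀, hs₀, h⟩ := H.exy hB
  obtain ⟨-, hy, hy1, hyo⟩ := H.Ymem hY
  obtain ⟨l, hl, hls⟩ := H.cls L hL s₀ hs₀.mem s hs ⟨hs₀.sq, hs₀.ne⟩ hi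
  refine ⟨l * y * l⁻¹, mul_mem (mul_mem hl hy) (inv_mem hl), ?_, ?_, ?_⟩
  · intro h1
    apply hy1
    calc y = l⁻¹ * (l * y * l⁻¹) * l := by group
      _ = 1 := by rw [h1]; group
  · have h1 := (MulAut.conj l).orderOf_eq y
    rw [MulAut.conj_apply] at h1
    rw [h1]
    exact hyo
  · rw [← hls]
    calc l * s₀ * l⁻¹ * (l * y * l⁻¹) * (l * s₀ * l⁻¹)⁻¹ = l * (s₀ * y * s₀⁻¹) * l⁻¹ := by group
      _ = (l * y * l⁻¹)⁻¹ := by rw [h]; group

omit [Finite G] in
/-- some conjugate of `s` does not commute with `s` -/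
theorem exists_nc (hL : L ∈ Λ) {s : G} (hs : s ∈ L) (hi : Inv s) :
    ∃ u ∈ L, Inv u ∧ s * (u * s * u⁻¹) ≠ u * s * u⁻¹ * s := by
  obtain ⟨y, hy, hy1, hyo, h⟩ := H.exists_odd hL hs hi
  have hsi := hi.inv
  rw [hsi] at h
  refine ⟨s * y, mul_mem hs hy, ⟨?_, ?_⟩, ?_⟩
  · calc s * y * (s * y) = (s * y * s) * y := by group
      _ = 1 := by rw [h, inv_mul_cancel]
  · intro h1
    have h2 : y = s := by
      rw [← hsi]
      exact eq_inv_of_mul_eq_one_right h1
    rw [h2, hi.order] at hyo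
    exact absurd hyo (by decide)
  · intro h1
    have e1 : s * y * s * (s * y)⁻¹ = y⁻¹ * y⁻¹ * s := by
      calc s * y * s * (s * y)⁻¹ = (s * y * s) * y⁻¹ * s⁻¹ := by group
        _ = y⁻¹ * y⁻¹ * s := by rw [h, hsi]
    rw [e1] at h1
    have e2 : s * (y⁻¹ * y⁻¹ * s) = y * y := by
      have h2 : s * y⁻¹ * s = y := by
        have h3 : (s * y * s)⁻¹ = s * y⁻¹ * s := by
          calc (s * y * s)⁻¹ = s⁻¹ * y⁻¹ * s⁻¹ := by group
            _ = s * y⁻¹ * s := by rw [hsi]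
        rw [← h3, h, inv_inv]
      calc s * (y⁻¹ * y⁻¹ * s) = (s * y⁻¹ * s) * (s⁻¹ * y⁻¹ * s) := by group
        _ = y * y := by rw [hsi, h2]
    have e3 : y⁻¹ * y⁻¹ * s * s = y⁻¹ * y⁻¹ := by rw [mul_assoc, hi.sq, mul_one]
    rw [e2, e3] at h1
    have h4 : y ^ 4 = 1 := by
      calc y ^ 4 = (y * y) * (y * y) := by simp only [pow_succ, pow_zero, one_mul, mul_assoc]
        _ = (y⁻¹ * y⁻¹) * (y * y) := by rw [h1]
        _ = 1 := by group
    have h5 : orderOf y ∣ 4 := orderOf_dvd_of_pow_eq_one h4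
    have h6 : orderOf y ∣ 1 := by
      have h7 : Nat.Coprime (orderOf y) 4 := by
        have : (4 : ℕ) = 2 ^ 2 := by norm_num
        rw [this]
        exact Nat.Coprime.pow_right 2 (Nat.coprime_two_right.mpr hyo)
      exact h7.dvd_of_dvd_mul_left (by rwa [mul_one])
    exact hy1 (orderOf_eq_one_iff.mp (Nat.dvd_one.mp h6))

/-- `v` does not act as `s` on a member containing `s` -/
theorem no_swap (hB : B x L) {s v : G} (hs : IsS L x s) (hv : IsT L x v) (hN : N ∈ Λ) (hsN : s ∈ N)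
    (h : s * v ∈ centralizer (N : Set G)) : False := by
  have hsi : Inv s := ⟨hs.sq, hs.ne⟩
  have hsv : s * v = v * s := comm_of_mem hs.mem hv.mem
  obtain ⟨u, hu, hui, hnc⟩ := H.exists_nc hN hsN hsi
  apply hnc
  obtain ⟨l, hl, hls⟩ := H.cls N hN s hsN u hu hsi hui
  have h1 := H.e6 hB (m := l) hs hv.isT1 hv (by
      calc v * (s * v) = (v * s) * v := by group
        _ = s * v * v := by rw [hsv]) (comm_of_mem hl h)
  have e1 : l * v * l⁻¹ = u * (s * v) := by
    have h2 := comm_of_mem hl h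
    have h3 : v = s * (s * v) := by rw [← mul_assoc, hs.sq, one_mul]
    calc l * v * l⁻¹ = l * (s * (s * v)) * l⁻¹ := by rw [← h3]
      _ = l * s * (s * v * l⁻¹) := by group
      _ = l * s * (l⁻¹ * (l * (s * v)) * l⁻¹) := by group
      _ = l * s * l⁻¹ * (s * v) := by rw [h2]; group
      _ = u * (s * v) := by rw [hls]
  rw [e1, cj_mul, mem_normalizer_iff_cj.mp (mul_mem (L_le_M hs.mem) (K_le_M hv.mem))] at h1
  have hmem : u * s * u⁻¹ ∈ cj u L := conj_mem_cj hs.mem
  have hmemN : u * s * u⁻¹ ∈ N := mul_mem (mul_mem hu hsN) (inv_mem hu)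
  rcases h1 with h1 | h1
  · rw [← h1] at hmem
    have h2 := comm_of_mem hmem hv.mem
    have h3 := comm_of_mem hmemN h
    obtain ⟨w, hw⟩ : ∃ w, w = u * s * u⁻¹ := ⟨_, rfl⟩
    rw [← hw] at h2 h3 ⊢
    apply mul_right_cancel (b := v)
    calc s * w * v = s * (w * v) := by group
      _ = (s * v) * w := by rw [h2]; group
      _ = w * s * v := by rw [← h3]; group
  · exact h1 s hs.mem _ hmem

/-- `Rot` is impossible -/
theorem no_rot (hB : B x L) {s f : G} (hs : IsS L x s) (hf : IsT L x f) (hN : N ∈ Λ) (hsN : s ∈ N)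
    (h : Rot N s f) : False := by
  obtain ⟨u, hu, huu, hfu, hus, r, hr, hrc, hsr, hur, hr8⟩ := h.ex
  have hsf : s * f = f * s := comm_of_mem hs.mem hf.mem
  have hui : u⁻¹ = u := inv_eq_of_mul_eq_one_left huu
  have hsi : s⁻¹ = s := inv_eq_of_mul_eq_one_left hs.sq
  obtain ⟨k, hk⟩ : ∃ k, k = f * u := ⟨_, rfl⟩
  rw [← hk] at hfu
  have hfk : f = k * u := by rw [hk, mul_assoc, huu, mul_one]
  have huk : u * k = k * u := comm_of_mem hu hfu
  have hrk : r * k = k * r := comm_of_mem hr hfu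
  have hrm : r * (s * f) = s * f * r := by
    calc r * (s * f) = r * (s * u) * k := by rw [hfk, ← huk]; group
      _ = s * u * (r * k) := by rw [hrc]; group
      _ = s * (u * k) * r := by rw [hrk]; group
      _ = s * f * r := by rw [huk, ← hfk]
  have h1 := H.e6 hB (m := r) hs hf.isT1 hf (by
    calc f * (s * f) = (f * s) * f := by group
      _ = s * f * f := by rw [hsf]) hrm
  have e1 : r * f * r⁻¹ = r * r * f := by
    have h2 : u * r⁻¹ * u = r := by
      have h3 : (u * r * u⁻¹)⁻¹ = u * r⁻¹ * u := by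
        calc (u * r * u⁻¹)⁻¹ = u * r⁻¹ * u⁻¹ := by group
          _ = _ := by rw [hui]
      rw [← h3, hur, inv_inv]
    have h4 : k * r⁻¹ = r⁻¹ * k := by
      calc k * r⁻¹ = r⁻¹ * (r * k) * r⁻¹ := by group
        _ = r⁻¹ * (k * r) * r⁻¹ := by rw [hrk]
        _ = r⁻¹ * k := by group
    calc r * f * r⁻¹ = r * (u * k) * r⁻¹ := by rw [huk, ← hfk]
      _ = r * u * (k * r⁻¹) := by group
      _ = r * (u * r⁻¹ * u) * u⁻¹ * k := by rw [h4]; group
      _ = r * r * (u * k) := by rw [h2, hui]; group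
      _ = r * r * f := by rw [huk, ← hfk]
  rw [e1, cj_mul, mem_normalizer_iff_cj.mp (K_le_M hf.mem)] at h1
  obtain ⟨w, hw⟩ : ∃ w, w = r * r * s * (r * r)⁻¹ := ⟨_, rfl⟩
  have hwm : w ∈ cj (r * r) L := hw ▸ conj_mem_cj hs.mem
  have hwN : w ∈ N := by rw [hw]; exact mul_mem (mul_mem (mul_mem hr hr) hsN) (inv_mem (mul_mem hr hr))
  -- `w = r ^ 4 s`
  have hsr' : s * r⁻¹ = r * s := by
    have h3 : (s * r * s⁻¹)⁻¹ = s * r⁻¹ * s⁻¹ := by group
    rw [hsr, inv_inv] at h3
    calc s * r⁻¹ = s * r⁻¹ * s⁻¹ * s := by group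
      _ = r * s := by rw [← h3]
  have hw4 : w = r ^ 4 * s := by
    rw [hw]
    calc r * r * s * (r * r)⁻¹ = r * r * (s * r⁻¹) * r⁻¹ := by group
      _ = r * r * (r * s) * r⁻¹ := by rw [hsr']
      _ = r * r * r * (s * r⁻¹) := by group
      _ = r * r * r * (r * s) := by rw [hsr']
      _ = r ^ 4 * s := by simp only [pow_succ, pow_zero, one_mul, mul_assoc]
  have inv4 : ∀ a : G, a * r * a⁻¹ = r⁻¹ → a * r ^ 4 * a⁻¹ = (r ^ 4)⁻¹ := by
    intro a ha
    rw [← conj_pow, ha, inv_pow]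
  have key : ∀ a : G, a * r * a⁻¹ = r⁻¹ → a * s = s * a → a * w = w * a → r ^ 8 = 1 := by
    intro a ha has haw
    have h3 := inv4 a ha
    have h4 : a * w * a⁻¹ = (r ^ 4)⁻¹ * s := by
      calc a * w * a⁻¹ = (a * r ^ 4 * a⁻¹) * (a * s) * a⁻¹ := by rw [hw4]; group
        _ = (r ^ 4)⁻¹ * s := by rw [h3, has]; group
    have h5 : a * w * a⁻¹ = w := by rw [haw]; group
    rw [h5, hw4] at h4
    have h6 := mul_right_cancel h4
    calc r ^ 8 = r ^ 4 * r ^ 4 := by group
      _ = (r ^ 4)⁻¹ * r ^ 4 := by rw [← h6]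
      _ = 1 := by group
  apply hr8
  rcases h1 with h1 | h1
  · rw [← h1] at hwm
    have h2 := comm_of_mem hwm hf.mem
    have h3 := comm_of_mem hwN hfu
    refine key u hur hus ?_
    apply mul_left_cancel (a := k)
    calc k * (u * w) = (k * u) * w := by group
      _ = f * w := by rw [← hfk]
      _ = w * f := h2.symm
      _ = (w * k) * u := by rw [hfk]; group
      _ = k * (w * u) := by rw [h3]; group
  · refine key s hsr rfl ?_
    exact h1 s hs.mem w hwm

/-- elements of order three of `N ∩ C(t)` normalize `L` -/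
theorem mem_of_three (hB : B x L) {s t : G} (hs : s ∈ L) (hi : Inv s) (ht : IsT L x t) (hN : N ∈ Λ)
    (hsN : s ∈ N) {d : G} (hd : d ∈ N) (hd3 : d ^ 3 = 1) (hdt : d * t = t * d) :
    d ∈ normalizer (L : Set G) := by
  have hL := H.Bmem hB
  by_contra hno
  have hs1 : Sim L (cj d L) := H.cmp hB ht d hdt
  have hddt : d * d * t = t * (d * d) := by
    calc d * d * t = d * (d * t) := by group
      _ = d * (t * d) := by rw [hdt]
      _ = (d * t) * d := by group
      _ = (t * d) * d := by rw [hdt]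
      _ = t * (d * d) := by group
  have hs2 : Sim L (cj (d * d) L) := H.cmp hB ht _ hddt
  have hne1 : L ≠ cj d L := fun h => hno (mem_normalizer_iff_cj.mpr h.symm)
  have hne2 : L ≠ cj (d * d) L := by
    intro h
    apply hno
    have h1 : d * d ∈ normalizer (L : Set G) := mem_normalizer_iff_cj.mpr h.symm
    have h2 : d = (d * d) * (d * d) := by
      calc d = d ^ 3 * d := by rw [hd3, one_mul]
        _ = (d * d) * (d * d) := by simp only [pow_succ, pow_zero, one_mul, mul_assoc]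
    rw [h2]
    exact mul_mem h1 h1
  have hs3 : Sim (cj d L) (cj (d * d) L) := by
    have := sim_cj hs1 d
    rwa [← cj_mul] at this
  have hne3 : cj d L ≠ cj (d * d) L := by
    intro h
    apply hne1
    rw [cj_mul] at h
    exact cj_injective d h
  obtain ⟨a, ha⟩ : ∃ a, a = d * s * d⁻¹ := ⟨_, rfl⟩
  obtain ⟨b, hb⟩ : ∃ b, b = d * d * s * (d * d)⁻¹ := ⟨_, rfl⟩
  have haL : a ∈ cj d L := ha ▸ conj_mem_cj hs
  have hbL : b ∈ cj (d * d) L := hb ▸ conj_mem_cj hs
  have hai : Inv a := ha ▸ hi.conj d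
  have hbi : Inv b := hb ▸ hi.conj (d * d)
  have haN : a ∈ N := by rw [ha]; exact mul_mem (mul_mem hd hsN) (inv_mem hd)
  have hbN : b ∈ N := by
    rw [hb]; exact mul_mem (mul_mem (mul_mem hd hd) hsN) (inv_mem (mul_mem hd hd))
  have c1 : s * a = a * s := Paired.Twin.comm_of_sim hs1 hne1 hs haL
  have c2 : s * b = b * s := Paired.Twin.comm_of_sim hs2 hne2 hs hbL
  have c3 : a * b = b * a := Paired.Twin.comm_of_sim hs3 hne3 haL hbL
  have kab : ∀ w ∈ L, w * a = a * w := fun w hw => Paired.Twin.comm_of_sim hs1 hne1 hw haL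
  have kbb : ∀ w ∈ L, w * b = b * w := fun w hw => Paired.Twin.comm_of_sim hs2 hne2 hw hbL
  rcases H.rk2 N hN s hsN a haN b hbN hi hai hbi c1 c2 c3 (by
      intro h
      exact hi.ne (H.toHyp.inf_eq hL hs1 hne1 hs (h ▸ haL))) with h | h | h
  · exact hi.ne (H.toHyp.inf_eq hL hs2 hne2 hs (h ▸ hbL))
  · have hcl := H.cl L hL d
    exact hai.ne (H.toHyp.inf_eq hcl hs3 hne3 haL (h ▸ hbL))
  · apply hi.ne
    refine H.toHyp.disj hL hs ?_
    have h1 : s = b * a := by rw [h, mul_assoc, hai.sq, mul_one]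
    rw [h1]
    exact mul_mem (mem_cen.mpr kbb) (mem_cen.mpr kab)

/-- **TI**: different members have no involution in common -/
theorem ti (hL : L ∈ Λ) (hN : N ∈ Λ) {s : G} (hs : s ∈ L) (hsN : s ∈ N) (hi : Inv s) : L = N := by
  -- choose `x` bad for `L` commuting with `s`, `N = L ^ m`, `m ∈ C(s)`
  obtain ⟨x₀, hB₀⟩ := H.ex L hL
  obtain ⟨-, -, -, s₀, hs₀, -⟩ := H.exy hB₀
  obtain ⟨l₀, hl₀, hls₀⟩ := H.cls L hL s₀ hs₀.mem s hs ⟨hs₀.sq, hs₀.ne⟩ hi
  obtain ⟨x, hx⟩ : ∃ x, x = l₀ * x₀ * l₀⁻¹ := ⟨_, rfl⟩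
  have hB : B x L := by
    have := H.Bcj l₀ x₀ L hB₀
    rwa [mem_normalizer_iff_cj.mp (L_le_M hl₀), ← hx] at this
  have hsx : IsS L x s := by
    refine ⟨hs, ?_, hi.sq, hi.ne⟩
    rw [hx, ← hls₀]
    have h1 := hs₀.comm
    calc l₀ * s₀ * l₀⁻¹ * (l₀ * x₀ * l₀⁻¹) = l₀ * (s₀ * x₀) * l₀⁻¹ := by group
      _ = l₀ * (x₀ * s₀) * l₀⁻¹ := by rw [h1]
      _ = _ := by group
  obtain ⟨g, hg⟩ := H.tr L hL N hN
  have hgs : g⁻¹ * s * g ∈ L := by
    rw [← mem_cj, hg]; exact hsN
  have hgi : Inv (g⁻¹ * s * g) := by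
    have := hi.conj g⁻¹
    rwa [inv_inv] at this
  obtain ⟨l, hl, hls⟩ := H.cls L hL s hs _ hgs hi hgi
  obtain ⟨m, hm⟩ : ∃ m, m = g * l := ⟨_, rfl⟩
  have hmN : cj m L = N := by
    rw [hm, cj_mul, mem_normalizer_iff_cj.mp (L_le_M hl), hg]
  have hms : m * s = s * m := by
    rw [hm]
    calc g * l * s = g * (l * s * l⁻¹) * l := by group
      _ = g * (g⁻¹ * s * g) * l := by rw [hls]
      _ = s * (g * l) := by group
  have hmis : m⁻¹ * s = s * m⁻¹ := by
    calc m⁻¹ * s = m⁻¹ * (s * m) * m⁻¹ := by group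
      _ = m⁻¹ * (m * s) * m⁻¹ := by rw [hms]
      _ = s * m⁻¹ := by group
  -- the `t`'s normalize `N`
  have hnorm : ∀ v, IsT L x v → v ∈ normalizer (N : Set G) := by
    intro v hv
    have hsv : s * v = v * s := comm_of_mem hs hv.mem
    have h1 := H.e6 hB (m := m⁻¹) hsx (t₁ := 1) ⟨one_mem _, by simp, by simp⟩ hv
      (by rw [mul_one, hsv]) (by rw [mul_one, hmis])
    have h2 := sim_cj h1 m
    have h3 : m * (m⁻¹ * v * m⁻¹⁻¹) = v * m := by group
    rw [← cj_mul, h3, cj_mul, hmN] at h2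
    rw [mem_normalizer_iff_cj]
    refine (H.eq_of_sim hN h2 hsN ?_ hi.ne).symm
    rw [mem_cj]
    have h4 : v⁻¹ * s * v = s := by
      calc v⁻¹ * s * v = v⁻¹ * (s * v) := by group
        _ = v⁻¹ * (v * s) := by rw [hsv]
        _ = s := by group
    rw [h4]
    exact hsN
  have hcen : ∀ v, IsT L x v → v ∈ centralizer (N : Set G) → L = N := by
    intro v hv h
    have h1 := H.toHyp.n1 hL hN (H.cmp hB hv) fun n hn => comm_of_mem hn h
    exact H.eq_of_sim hL h1.symm hs hsN hi.ne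
  obtain ⟨t, u, ht, hu, hne, hc⟩ := H.four hB
  have htu : IsT L x (t * u) := by
    refine (ht.isT1.mul hu.isT1 hc).isT ?_
    intro h3
    apply hne
    rw [eq_inv_of_mul_eq_one_left h3, inv_eq_of_mul_eq_one_left hu.sq]
  by_cases h1 : t ∈ centralizer (N : Set G)
  · exact hcen t ht h1
  by_cases h2 : u ∈ centralizer (N : Set G)
  · exact hcen u hu h2
  by_cases h3 : t * u ∈ centralizer (N : Set G)
  · exact hcen _ htu h3
  have hsw : ∀ v, IsT L x v → v * s ∈ centralizer (N : Set G) → False := by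
    intro v hv h
    rw [← comm_of_mem hs hv.mem] at h
    exact H.no_swap hB hsx hv hN hsN h
  rcases H.cens N hN s hsN hi t (hnorm t ht) u (hnorm u hu) ht.sq hu.sq hc
    (comm_of_mem hs ht.mem).symm (comm_of_mem hs hu.mem).symm h1 h2 h3 with
    h | h | h | h | h | h | h
  · exact (hsw t ht h).elim
  · exact (hsw u hu h).elim
  · exact (hsw _ htu h).elim
  · exact (H.no_rot hB hsx ht hN hsN h).elim
  · exact (H.no_rot hB hsx hu hN hsN h).elim
  · exact (H.no_rot hB hsx htu hN hsN h).elim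
  · have hNM : N ≤ normalizer (L : Set G) := by
      apply h
      intro d hd hd3 hor
      rcases hor with h4 | h4 | h4
      · exact H.mem_of_three hB hs hi ht hN hsN hd hd3 h4
      · exact H.mem_of_three hB hs hi hu hN hsN hd hd3 h4
      · exact H.mem_of_three hB hs hi htu hN hsN hd hd3 h4
    exact H.eq_of_sim hL (H.toHyp.star hL hN hNM).symm hs hsN hi.ne

/-- **control**: `C(u) ≤ N(L)` for the involutions `u` of `L` -/
theorem ctrl (hL : L ∈ Λ) {u : G} (hu : u ∈ L) (hui : Inv u) {c : G} (hc : c * u = u * c) :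
    c ∈ normalizer (L : Set G) := by
  rw [mem_normalizer_iff_cj]
  refine (H.ti hL (H.cl L hL c) hu ?_ hui).symm
  rw [mem_cj]
  have : c⁻¹ * u * c = u := by rw [mul_assoc, ← hc, ← mul_assoc, inv_mul_cancel, one_mul]
  rwa [this]

end

end Cfsg.Agent.UGT.CaseG.Out
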