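import Cfsg.Agent.UGT.CaseG.End
import Cfsg.Agent.UGT.CaseG.Tight
import Cfsg.Agent.UGT.Paired.Inner

/-!
# Case (g): the contradiction

`Out.false_of`: the structure `Out Λ B Y X` with the K-facts `NAF Λ Y` is contradictory if `X` is simple and `Λ` is
not empty.
-/

set_option autoImplicit false

open Subgroup
open Cfsg.Agent.SignalizersComponents.IntrinsicBasic
open Cfsg.Agent.UGT.ThE.Base
open Cfsg.Agent.UGT.Paired.Basic
open Cfsg.Agent.UGT.CaseG.NA

namespace Cfsg.Agent.UGT.CaseG.Out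

variable {G : Type*} [Group G] [Finite G] {Λ : Set (Subgroup G)} {B : G → Subgroup G → Prop}
  {Y : Subgroup G → G → Prop} {X : Subgroup G}

variable (H : Out Λ B Y X)
include H

theorem tight {L : Subgroup G} (hL : L ∈ Λ) : Tight Λ B Y X where
  toHyp := H.toHyp
  XN := fun g x hx => H.XN.conj_mem x hx g
  xX := H.xX
  LX := H.LX
  bad := ⟨_, L, (H.ex L hL).choose_spec⟩
  fix := H.fix
  ti := fun hL hN _ hu hn hi => H.ti hL hN hu hn hi
  ctrl := fun hL _ _ hu hi hc => H.ctrl hL hu hi hc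

theorem inner (F : Paired.NA.NAF Λ Y) : Inner Λ := by
  intro L hL N hN z hz hzi hzL hns
  obtain ⟨p, hp, -, h⟩ := H.toHyp.inner_of F (fun L hL u hu hui c hc => H.ctrl hL hu hui hc) L hL N hN z hz
    hzi hzL hns
  exact ⟨p, hp, h⟩

/-- **case (g)** -/
theorem false_of (F : Paired.NA.NAF Λ Y)
    (hXs : ∀ K : Subgroup G, K ≤ X → (∀ x ∈ X, ∀ k ∈ K, x * k * x⁻¹ ∈ K) → K = ⊥ ∨ K = X)
    {L : Subgroup G} (hL : L ∈ Λ) : False := by
  obtain ⟨x, hB⟩ := H.ex L hL
  obtain ⟨t, -, ht, -⟩ := H.four hB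
  exact (H.tight hL).false_of (H.inner F) hXs hL ht.mem ht.ne (H.tX hB ht)

end Cfsg.Agent.UGT.CaseG.Out
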