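import Cfsg.Agent.UGT.Paired.Link

/-!
# Case (g): no adjacency, SWAP

`Tight Λ B Y X`: the hypotheses `Hyp Λ B Y` of Theorem P, `B x L → x ∉ X`, all members of `Λ` lie in the normal
subgroup `X`, a bad involution normalizes only its own member (`fix`), an involution lies in at most one member
(`ti`), and `C(u) ≤ N(L)` for the involutions `u ∈ L` (`ctrl`).

* `Tight.noAdj`: `NoAdj Λ` (an involution of `N` normalizes `L` only if `N = L` or `[N, L] = 1`), all `q`;
* `Tight.swap`: an involution of a member does not move a member to a commuting one.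
-/

set_option autoImplicit false

open Subgroup
open Cfsg.Agent.SignalizersComponents.IntrinsicBasic
open Cfsg.Agent.UGT.ThE.Base
open Cfsg.Agent.UGT.Paired.Basic
open Cfsg.Agent.UGT.Paired.Twin
open Cfsg.Agent.UGT.Paired.Com

namespace Cfsg.Agent.UGT.CaseG.NA

variable {G : Type*} [Group G]

structure Tight (Λ : Set (Subgroup G)) (B : G → Subgroup G → Prop) (Y : Subgroup G → G → Prop)
    (X : Subgroup G) : Prop extends Hyp Λ B Y where
  XN : ∀ g : G, ∀ x ∈ X, g * x * g⁻¹ ∈ X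
  xX : ∀ {x : G} {L : Subgroup G}, B x L → x ∉ X
  LX : ∀ L ∈ Λ, L ≤ X
  bad : ∃ (x : G) (L : Subgroup G), B x L
  fix : ∀ {x : G} {L N : Subgroup G}, B x L → N ∈ Λ → x ∈ normalizer (N : Set G) → N = L
  ti : ∀ {L N : Subgroup G}, L ∈ Λ → N ∈ Λ → ∀ {u : G}, u ∈ L → u ∈ N → Inv u → L = N
  ctrl : ∀ {L : Subgroup G}, L ∈ Λ → ∀ {u c : G}, u ∈ L → Inv u → c * u = u * c →
    c ∈ normalizer (L : Set G)

/-- in case of an involution `z ∈ N` normalizing `L`, `z` is inner on `L` unless `Sim N L` -/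
def Inner (Λ : Set (Subgroup G)) : Prop :=
  ∀ L ∈ Λ, ∀ N ∈ Λ, ∀ z ∈ N, Inv z → z ∈ normalizer (L : Set G) → ¬ Sim N L →
    ∃ p ∈ L, z * p ∈ centralizer (L : Set G)

/-! ### dihedral groups -/

theorem dih_conj {e a : G} (he : e * e = 1) (ha : a * a = 1) (k : ℕ) :
    ((e * a) ^ k)⁻¹ * a * (e * a) ^ k = e * (e * a) ^ (2 * k + 1) := by
  have hei : e⁻¹ = e := inv_eq_of_mul_eq_one_left he
  have hai : a⁻¹ = a := inv_eq_of_mul_eq_one_left ha
  obtain ⟨r, hr⟩ : ∃ r, r = e * a := ⟨_, rfl⟩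
  rw [← hr]
  have h1 : e * r * e⁻¹ = r⁻¹ := by
    rw [hr, mul_inv_rev, hei, hai, ← mul_assoc, he, one_mul]
  have h2 : e * r ^ k * e⁻¹ = (r ^ k)⁻¹ := by rw [← conj_pow, h1, inv_pow]
  rw [← h2, hei]
  calc e * r ^ k * e * a * r ^ k = e * r ^ k * (e * a) * r ^ k := by group
    _ = e * (r ^ k * r * r ^ k) := by rw [← hr]; group
    _ = e * r ^ (2 * k + 1) := by
      rw [← pow_succ, ← pow_add]; congr 2; omega

theorem dih_conj' {e a : G} (he : e * e = 1) (ha : a * a = 1) (k : ℕ) :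
    ((e * a) ^ k)⁻¹ * e * (e * a) ^ k = e * (e * a) ^ (2 * k) := by
  have hei : e⁻¹ = e := inv_eq_of_mul_eq_one_left he
  have hai : a⁻¹ = a := inv_eq_of_mul_eq_one_left ha
  obtain ⟨r, hr⟩ : ∃ r, r = e * a := ⟨_, rfl⟩
  rw [← hr]
  have h1 : e * r * e⁻¹ = r⁻¹ := by
    rw [hr, mul_inv_rev, hei, hai, ← mul_assoc, he, one_mul]
  have h2 : e * r ^ k * e⁻¹ = (r ^ k)⁻¹ := by rw [← conj_pow, h1, inv_pow]
  rw [← h2, hei]
  calc e * r ^ k * e * e * r ^ k = e * r ^ k * (e * e) * r ^ k := by group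
    _ = e * (r ^ k * r ^ k) := by rw [he]; group
    _ = e * r ^ (2 * k) := by rw [← pow_add, two_mul]

theorem a_mul {e a : G} (he : e * e = 1) (k : ℕ) :
    a * (e * a) ^ (2 * k) = e * (e * a) ^ (2 * k + 1) := by
  rw [pow_succ' (e * a) (2 * k), ← mul_assoc, ← mul_assoc, he, one_mul]

/-- a reflection carrying `a` to `a (ea)^(2k)` -/
theorem dih_even {e a : G} (he : e * e = 1) (ha : a * a = 1) (k : ℕ) :
    ∃ ρ : G, ρ * ρ = 1 ∧ ρ * a * ρ⁻¹ = a * (e * a) ^ (2 * k) ∧
      ∃ d ∈ zpowers (e * a), ρ = d * e * d⁻¹ ∨ ρ = d * a * d⁻¹ := by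
  have hei : e⁻¹ = e := inv_eq_of_mul_eq_one_left he
  have hai : a⁻¹ = a := inv_eq_of_mul_eq_one_left ha
  obtain ⟨r, hr⟩ : ∃ r, r = e * a := ⟨_, rfl⟩
  have h1 : e * r * e⁻¹ = r⁻¹ := by
    rw [hr, mul_inv_rev, hei, hai, ← mul_assoc, he, one_mul]
  have h2 : ∀ i : ℕ, e * r ^ i * e = (r ^ i)⁻¹ := by
    intro i
    rw [← inv_pow, ← h1, conj_pow, hei]
  have h3 : a = e * r := by rw [hr, ← mul_assoc, he, one_mul]
  have hρ : e * r ^ (k + 1) * (e * r ^ (k + 1)) = 1 := by
    calc e * r ^ (k + 1) * (e * r ^ (k + 1)) = (e * r ^ (k + 1) * e) * r ^ (k + 1) := by group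
      _ = 1 := by rw [h2]; group
  refine ⟨e * r ^ (k + 1), hρ, ?_, ?_⟩
  · rw [inv_eq_of_mul_eq_one_left hρ, a_mul he, ← hr]
    have h4 : a * e = r⁻¹ := by rw [hr, mul_inv_rev, hei, hai]
    calc e * r ^ (k + 1) * a * (e * r ^ (k + 1)) = e * r ^ (k + 1) * (a * e) * r ^ (k + 1) := by group
      _ = e * (r ^ (k + 1) * r⁻¹ * r ^ (k + 1)) := by rw [h4]; group
      _ = e * r ^ (2 * k + 1) := by
        rw [pow_succ r k, mul_inv_cancel_right, ← pow_succ, ← pow_add]; congr 2; omega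
  · rcases Nat.even_or_odd (k + 1) with ⟨i, hi⟩ | ⟨i, hi⟩
    · refine ⟨(r ^ i)⁻¹, inv_mem (pow_mem (hr ▸ mem_zpowers r) i), Or.inl ?_⟩
      rw [inv_inv, hr, dih_conj' he ha, hi, two_mul]
    · refine ⟨(r ^ i)⁻¹, inv_mem (pow_mem (hr ▸ mem_zpowers r) i), Or.inr ?_⟩
      rw [inv_inv, hr, dih_conj he ha, hi]

end Cfsg.Agent.UGT.CaseG.NA

namespace Cfsg.Agent.UGT.CaseG.NA.Tight

variable {G : Type*} [Group G] {Λ : Set (Subgroup G)} {B : G → Subgroup G → Prop}
  {Y : Subgroup G → G → Prop} {X : Subgroup G}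

variable (T : Tight Λ B Y X)
include T

theorem hx {x c : G} {L : Subgroup G} (hB : B x L) (h : c * x = x * c) : c ∈ normalizer (L : Set G) := by
  have h1 := T.Bcj c x L hB
  rw [h, mul_inv_cancel_right] at h1
  exact mem_normalizer_iff_cj.mpr (T.fix hB (T.Bmem h1) (T.BN h1))

theorem uniq {x : G} {L N : Subgroup G} (h : B x L) (h' : B x N) : N = L :=
  T.fix h (T.Bmem h') (T.BN h')

/-- (a) -/
theorem eq_of_comm {e i : G} {L N : Subgroup G} (hB : B e L) (hN : N ∈ Λ) (hi : i ∈ N) (hii : Inv i)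
    (h : i * e = e * i) : N = L :=
  T.fix hB hN (T.ctrl hN hi hii h.symm)

/-- `B e' L` and `w` acts on `L` as `e'` -/
theorem bad_of_act {e w : G} {L : Subgroup G} (hB : B e L) (hww : w * w = 1) (hwe : w * e = e * w)
    (h : e * w ∈ centralizer (L : Set G)) : B w L := by
  have he := (T.Binv hB).sq
  by_cases h1 : e * w = 1
  · have h2 : w = e := by
      calc w = e * (e * w) := by rw [← mul_assoc, he, one_mul]
        _ = e := by rw [h1, mul_one]
    rw [h2]; exact hB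
  · have h2 := T.mul hB (t := e * w) ⟨h, by rw [mul_assoc, hwe], by
      calc e * w * (e * w) = e * (w * e) * w := by group
        _ = (e * e) * (w * w) := by rw [hwe]; group
        _ = 1 := by rw [he, hww, one_mul], h1⟩
    rwa [← mul_assoc, he, one_mul] at h2

section

/-- the product `u u^e`, `e` bad for `L`, `u ∈ N` an involution, `N^e ≠ N` commuting with `N` -/
theorem isT_diag {e u : G} {L N : Subgroup G} (hB : B e L) (hN : N ∈ Λ) (hs : Sim N (cj e N))
    (hne : N ≠ cj e N) (hu : u ∈ N) (hui : Inv u) : IsT L e (u * (e * u * e⁻¹)) := by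
  have he := T.Binv hB
  obtain ⟨D, hD, hDe, hDm⟩ := exists_diag (L := N) he.sq
    (fun a ha b hb => comm_of_sim hs hne ha (conj_mem_cj hb)) (T.perf N hN)
  have h1 : D ≤ centralizer (L : Set G) :=
    T.solx hB D (fun d hd => T.hx hB (hDe d hd)) hD hDe
  have h2 : u * (e * u * e⁻¹) ∈ D := (hDm _).mpr ⟨u, hu, rfl⟩
  have h3 := comm_of_sim hs hne hu (conj_mem_cj (g := e) hu)
  refine ⟨h1 h2, hDe _ h2, ?_, ?_⟩
  · calc u * (e * u * e⁻¹) * (u * (e * u * e⁻¹)) = u * ((e * u * e⁻¹) * u) * (e * u * e⁻¹) := by group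
      _ = u * (u * (e * u * e⁻¹)) * (e * u * e⁻¹) := by rw [h3]
      _ = (u * u) * e * (u * u) * e⁻¹ := by group
      _ = 1 := by rw [hui.sq]; group
  · intro h4
    have h5 : u = e * u * e⁻¹ := by
      have h6 : (e * u * e⁻¹)⁻¹ = e * u * e⁻¹ := (hui.conj e).inv
      rw [← h6]
      exact eq_inv_of_mul_eq_one_left h4
    exact hui.ne (T.inf_eq hN hs hne hu (h5 ▸ conj_mem_cj hu))

end

variable [Finite G]

/-- (b) -/
theorem sim_of_cen {i : G} {L N : Subgroup G} (hN : N ∈ Λ) (hi : i ∈ N) (hii : Inv i) (hL : L ∈ Λ)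
    (h : i ∈ centralizer (L : Set G)) : Sim L N :=
  T.star hN hL fun _ hl => T.ctrl hN hi hii (comm_of_mem hl h)

theorem sim_of_fine {t : G} {L N : Subgroup G} (hL : L ∈ Λ) (hN : N ∈ Λ) (ht : Cp L t)
    (h : t ∈ centralizer (N : Set G)) : Sim N L :=
  T.n1 hL hN ht fun _ hn => comm_of_mem hn h

omit [Finite G] in
/-- members are generated by their involutions -/
theorem le_of_inv {L M : Subgroup G} (hL : L ∈ Λ) (h : ∀ u ∈ L, Inv u → u ∈ M) : L ≤ M := by
  obtain ⟨K, hK⟩ : ∃ K : Subgroup G, K = closure {u | u ∈ L ∧ Inv u} := ⟨_, rfl⟩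
  have h1 : K ≤ L := by
    rw [hK, closure_le]
    exact fun u hu => hu.1
  have h2 : K ≤ M := by
    rw [hK, closure_le]
    exact fun u hu => h u hu.1 hu.2
  have h3 : ∀ l ∈ L, ∀ n ∈ K, l * n * l⁻¹ ∈ K := by
    intro l hl n hn
    have h4 : K ≤ cj l⁻¹ K := by
      conv_lhs => rw [hK]
      rw [closure_le]
      rintro u ⟨hu, hui⟩
      rw [SetLike.mem_coe, mem_cj, inv_inv, hK]
      exact subset_closure ⟨mul_mem (mul_mem hl hu) (inv_mem hl), hui.conj l⟩
    have h5 := h4 hn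
    rw [mem_cj, inv_inv] at h5
    exact h5
  rcases T.simp L hL K h1 h3 with h4 | h4
  · exfalso
    obtain ⟨u, hu, hui⟩ := T.even L hL
    have h5 : u ∈ K := hK ▸ subset_closure ⟨hu, hui⟩
    rw [h4, mem_bot] at h5
    exact hui.ne h5
  · exact h4 ▸ h2

/-- Lemma 2 -/
theorem two {e : G} {L N : Subgroup G} (hB : B e L) (hN : N ∈ Λ) (hs : Sim N (cj e N))
    (hne : N ≠ cj e N) : Sim N L := by
  have he := T.Binv hB
  refine T.star (T.Bmem hB) hN (T.le_of_inv hN fun u hu hui => ?_)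
  have h1 := T.isT_diag hB hN hs hne hu hui
  have h3 := comm_of_sim hs hne hu (conj_mem_cj (g := e) hu)
  have h2 := T.mul hB h1
  have h4 := T.Bcj u e L hB
  have h5 : u * e * u⁻¹ = e * (u * (e * u * e⁻¹)) := by
    rw [h3, hui.inv, he.inv]
    calc u * e * u = u * e * u := rfl
      _ = (e * e) * u * e * u := by rw [he.sq, one_mul]
      _ = e * (e * u * e * u) := by group
  rw [h5] at h4
  exact mem_normalizer_iff_cj.mpr (T.uniq h2 h4)

omit [Finite G] in
/-- a bad involution for `L` commuting with a given involution of `L` -/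
theorem exists_bad {L : Subgroup G} (hL : L ∈ Λ) : ∃ e, B e L := by
  obtain ⟨x, L0, hB⟩ := T.bad
  obtain ⟨g, rfl⟩ := T.tr L0 (T.Bmem hB) L hL
  exact ⟨_, T.Bcj g x L0 hB⟩

omit [Finite G] in
theorem exists_bad_comm {L : Subgroup G} (hL : L ∈ Λ) {p : G} (hp : p ∈ L) (hpi : Inv p) :
    ∃ e, B e L ∧ IsS L e p := by
  obtain ⟨x, hB⟩ := T.exists_bad hL
  obtain ⟨-, -, -, s, hs, -⟩ := T.exy hB
  obtain ⟨l, hl, h⟩ := T.cls L hL s hs.mem p hp ⟨hs.sq, hs.ne⟩ hpi
  have h1 := T.Bcj l x L hB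
  rw [cj_eq_self_of_mem hl] at h1
  refine ⟨l * x * l⁻¹, h1, hp, ?_, hpi.sq, hpi.ne⟩
  rw [← h]
  calc l * s * l⁻¹ * (l * x * l⁻¹) = l * (s * x) * l⁻¹ := by group
    _ = l * (x * s) * l⁻¹ := by rw [hs.comm]
    _ = l * x * l⁻¹ * (l * s * l⁻¹) := by group

variable (hI : Inner Λ)
include hI

omit [Finite G] in
theorem split [Finite G] {z : G} {L N : Subgroup G} (hL : L ∈ Λ) (hN : N ∈ Λ) (hz : z ∈ N) (hzi : Inv z)
    (hzL : z ∈ normalizer (L : Set G)) (hns : ¬ Sim N L) :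
    ∃ p ∈ L, ∃ k ∈ centralizer (L : Set G), Inv p ∧ k * k = 1 ∧ z = p * k := by
  obtain ⟨p, hp, hk⟩ := hI L hL N hN z hz hzi hzL hns
  obtain ⟨k, hkdef⟩ : ∃ k, k = z * p := ⟨_, rfl⟩
  rw [← hkdef] at hk
  have hpk : p * k = k * p := comm_of_mem hp hk
  have hz' : z = k * p⁻¹ := by rw [hkdef]; group
  have h1 : k * k = p * p := by
    have h2 := hzi.sq
    rw [hz'] at h2
    have h3 : k * p⁻¹ * (k * p⁻¹) = k * k * (p * p)⁻¹ := by
      have h4 : p⁻¹ * k = k * p⁻¹ := comm_of_mem (inv_mem hp) hk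
      calc k * p⁻¹ * (k * p⁻¹) = k * (p⁻¹ * k) * p⁻¹ := by group
        _ = k * (k * p⁻¹) * p⁻¹ := by rw [h4]
        _ = _ := by group
    rw [h3] at h2
    exact mul_inv_eq_one.mp h2
  have h2 : p * p = 1 := T.disj hL (mul_mem hp hp) (h1 ▸ mul_mem hk hk)
  have h3 : p⁻¹ = p := inv_eq_of_mul_eq_one_left h2
  have h4 : p ≠ 1 := by
    intro h5
    rw [h5, inv_one, mul_one] at hz'
    exact hns (T.sim_of_cen hN hz hzi hL (hz' ▸ hk)).symm
  exact ⟨p, hp, k, hk, ⟨h2, h4⟩, h1.trans h2, by rw [hz', h3, hpk]⟩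

/-- Lemma 13 -/
theorem noAdj : NoAdj Λ := by
  intro L hL N hN a ha hai haL
  by_contra hns
  obtain ⟨p, hp, k, hk, hpi, hkk, hapk⟩ := T.split hI hL hN ha hai haL hns
  obtain ⟨e, hB, hs⟩ := T.exists_bad_comm hL hp hpi
  have he := T.Binv hB
  have heL := T.BN hB
  -- `(e a)² ∈ C(L)`
  have hr2 : (e * a) ^ 2 ∈ centralizer (L : Set G) := by
    have h1 : (e * a) ^ 2 = (e * k * e⁻¹) * k := by
      have h2 : p * k = k * p := comm_of_mem hp hk
      have h3 : e * k * e⁻¹ ∈ centralizer (L : Set G) := K_conj heL hk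
      have h4 : p * (e * k * e⁻¹) = (e * k * e⁻¹) * p := comm_of_mem hp h3
      rw [pow_two, hapk, he.inv] at *
      calc e * (p * k) * (e * (p * k)) = (e * p) * k * e * p * k := by group
        _ = (p * e) * k * e * p * k := by rw [← hs.comm]
        _ = p * (e * k * e) * p * k := by group
        _ = (e * k * e) * (p * p) * k := by rw [h4]; group
        _ = (e * k * e) * k := by rw [hpi.sq, mul_one]
    rw [h1]
    exact mul_mem (K_conj heL hk) hk
  obtain ⟨r, hr⟩ : ∃ r, r = e * a := ⟨_, rfl⟩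
  rcases Cfsg.Agent.UGT.Res.ThH.dih he.sq hai.sq with ⟨c, -, hc⟩ | ⟨m, hm, hmo, hme, hma⟩
  · -- `e` is conjugate to `a`
    apply T.xX hB
    have h1 := T.XN c⁻¹ a (T.LX N hN ha)
    rw [← hc] at h1
    have h2 : c⁻¹ * (c * e * c⁻¹) * c⁻¹⁻¹ = e := by group
    rwa [h2] at h1
  obtain ⟨w, hw⟩ : ∃ w, w = (e * a) ^ m := ⟨_, rfl⟩
  rw [← hw] at hmo hme hma
  have hww : w * w = 1 := Cfsg.Agent.UGT.Res.ThH.sq hmo
  have hw1 : w ≠ 1 := Cfsg.Agent.UGT.Res.ThH.ne_one hmo
  rcases Nat.even_or_odd m with ⟨j, hj⟩ | ⟨j, hj⟩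
  · -- `m` even: `w` is fine
    have hj2 : m = 2 * j := by omega
    have hwK : w ∈ centralizer (L : Set G) := by
      rw [hw, hj2, pow_mul]
      exact pow_mem hr2 j
    have hwT : IsT L e w := ⟨hwK, hme, hww, hw1⟩
    have hwC : Cp L w := T.cmp hB hwT
    obtain ⟨ρ, hρρ, hρa, d, hd, hρd⟩ := dih_even he.sq hai.sq j
    rw [← hj2, ← hw] at hρa
    have hρi : ρ⁻¹ = ρ := inv_eq_of_mul_eq_one_left hρρ
    have hrL : e * a ∈ normalizer (L : Set G) := mul_mem heL haL
    have hdL : d ∈ normalizer (L : Set G) := (zpowers_le.mpr hrL) hd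
    have hdLL : cj d L = L := mem_normalizer_iff_cj.mp hdL
    have hN2 : cj ρ N ∈ Λ := T.cl N hN ρ
    have haw : a * w ∈ cj ρ N := hρa ▸ conj_mem_cj ha
    have hawi : Inv (a * w) := hρa ▸ hai.conj ρ
    by_cases h1 : N = cj ρ N
    · -- `w ∈ N`
      have h2 : w ∈ N := by
        have h3 : w = a * (a * w) := by rw [← mul_assoc, hai.sq, one_mul]
        rw [h3]
        exact mul_mem ha (h1 ▸ haw)
      exact hns (Or.inl (T.eq_of_comm hB hN h2 ⟨hww, hw1⟩ hme))
    by_cases h2 : Sim N (cj ρ N)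
    · rcases hρd with hρd | hρd
      · -- `ρ` is bad for `L`
        apply hns
        have h3 := T.Bcj d e L hB
        rw [hdLL, ← hρd] at h3
        exact T.two h3 hN h2 h1
      · -- `ρ` lies in a conjugate of `N`
        obtain ⟨D, hD, hDρ, hDm⟩ := exists_diag (L := N) hρρ
          (fun a ha b hb => comm_of_sim h2 h1 ha (conj_mem_cj hb)) (T.perf N hN)
        have h3 : ρ ∈ cj d N := by rw [hρd]; exact conj_mem_cj ha
        have h4 : Inv ρ := by rw [hρd]; exact hai.conj d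
        have hNd := T.cl N hN d
        have h5 : D ≤ centralizer ((cj d N : Subgroup G) : Set G) :=
          T.sol _ hNd ρ h3 h4.ne D (fun x hx => T.ctrl hNd h3 h4 (hDρ x hx)) hD hDρ
        have h6 : w ∈ D := (hDm w).mpr ⟨a, ha, by rw [hρa, ← mul_assoc, hai.sq, one_mul]⟩
        have h7 : Sim (cj d N) L := T.sim_of_fine hL hNd hwC (h5 h6)
        rw [← hdLL] at h7
        exact hns (sim_of_cj h7)
    · -- `a w` acts on `N` as an involution of `N`
      have haw2 : a * w ∈ normalizer (N : Set G) := by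
        apply T.ctrl hN ha hai
        calc a * w * a = a * (w * a) := by group
          _ = a * (a * w) := by rw [hma]
      obtain ⟨c, hc, k', hk', hci, hkk', hck⟩ := T.split hI hN hN2 haw hawi haw2
        fun h => h2 h.symm
      have hac : a * c = c * a := by
        have h3 : a * k' = k' * a := comm_of_mem ha hk'
        have h4 : c = a * w * k' := by
          rw [hck, mul_assoc, hkk', mul_one]
        calc a * c = a * (a * w * k') := by rw [h4]
          _ = (a * (a * w)) * k' := by group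
          _ = (a * (w * a)) * k' := by rw [hma]
          _ = a * w * (a * k') := by group
          _ = a * w * (k' * a) := by rw [h3]
          _ = (a * w * k') * a := by group
          _ = c * a := by rw [h4]
      have hwk : w = (a * c) * k' := by
        calc w = a * (a * w) := by rw [← mul_assoc, hai.sq, one_mul]
          _ = a * (c * k') := by rw [hck]
          _ = _ := by group
      by_cases h3 : a * c = 1
      · -- `w ∈ C(N)`
        rw [h3, one_mul] at hwk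
        exact hns (T.sim_of_fine hL hN hwC (hwk ▸ hk'))
      · -- `w` is conjugate to `a w`
        have h4 : Inv (a * c) := ⟨by
          calc a * c * (a * c) = a * (c * a) * c := by group
            _ = (a * a) * (c * c) := by rw [← hac]; group
            _ = 1 := by rw [hai.sq, hci.sq, mul_one], h3⟩
        obtain ⟨l, hl, hlc⟩ := T.cls N hN c hc (a * c) (mul_mem ha hc) hci h4
        have h5 : l * (a * w) * l⁻¹ = w := by
          have h6 : l * k' = k' * l := comm_of_mem hl hk'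
          calc l * (a * w) * l⁻¹ = l * c * (k' * l⁻¹) := by rw [hck]; group
            _ = l * c * (l⁻¹ * k') := by
              rw [comm_of_mem (inv_mem hl) hk']
            _ = (l * c * l⁻¹) * k' := by group
            _ = w := by rw [hlc, hwk]
        have h6 : w ∈ cj l (cj ρ N) := h5 ▸ conj_mem_cj haw
        have h7 : cj l (cj ρ N) = L := T.eq_of_comm hB (T.cl _ hN2 l) h6 ⟨hww, hw1⟩ hme
        exact hw1 (T.disj hL (h7 ▸ h6) hwK)
  · -- `m` odd: `w` is bad for `L`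
    have hB' := T.xs_bad hB hs
    obtain ⟨e', he'⟩ : ∃ e', e' = e * p := ⟨_, rfl⟩
    rw [← he'] at hB'
    have hwdef : w = e' * (k * ((e * a) ^ 2) ^ j) := by
      rw [hw, hj, pow_succ', pow_mul, he', hapk]; group
    have hκ : k * ((e * a) ^ 2) ^ j ∈ centralizer (L : Set G) := mul_mem hk (pow_mem hr2 j)
    obtain ⟨κ, hκdef⟩ : ∃ κ, κ = k * ((e * a) ^ 2) ^ j := ⟨_, rfl⟩
    rw [← hκdef] at hwdef hκ
    have hpe : p * e' = e' * p := by
      rw [he']
      calc p * (e * p) = (p * e) * p := by group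
        _ = (e * p) * p := by rw [hs.comm]
    have hpw : w * p = p * w := by
      rw [hwdef]
      calc e' * κ * p = e' * (p * κ) := by rw [comm_of_mem hp hκ]; group
        _ = (p * e') * κ := by rw [hpe]; group
        _ = p * (e' * κ) := by group
    have hwe : w * e' = e' * w := by
      rw [he']
      calc w * (e * p) = (w * e) * p := by group
        _ = (e * w) * p := by rw [hme]
        _ = e * (w * p) := by group
        _ = e * (p * w) := by rw [hpw]
        _ = e * p * w := by group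
    have hBw : B w L := T.bad_of_act hB' hww hwe (by
      rw [hwdef, ← mul_assoc, (T.Binv hB').sq, one_mul]
      exact hκ)
    exact hns (Or.inl (T.eq_of_comm hBw hN ha hai hma.symm))

/-- SWAP -/
theorem swap {a : G} {L N : Subgroup G} (hN : N ∈ Λ) (ha : a ∈ N) (hai : Inv a) (hL : L ∈ Λ)
    (hne : L ≠ cj a L) : ¬ Sim L (cj a L) := by
  intro hs
  obtain ⟨b, hb, hbi⟩ := T.even L hL
  obtain ⟨D, hD, hDa, hDm⟩ := exists_diag (L := L) hai.sq
    (fun x hx y hy => comm_of_sim hs hne hx (conj_mem_cj hy)) (T.perf L hL)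
  have h5 : D ≤ centralizer (N : Set G) :=
    T.sol _ hN a ha hai.ne D (fun x hx => T.ctrl hN ha hai (hDa x hx)) hD hDa
  obtain ⟨w, hw⟩ : ∃ w, w = b * (a * b * a⁻¹) := ⟨_, rfl⟩
  have hwK : w ∈ centralizer (N : Set G) := h5 ((hDm w).mpr ⟨b, hb, hw⟩)
  have hcomm := comm_of_sim hs hne hb (conj_mem_cj (g := a) hb)
  have hw1 : w ≠ 1 := by
    intro h4
    rw [hw] at h4
    have h5 : b = a * b * a⁻¹ := by
      have h6 : (a * b * a⁻¹)⁻¹ = a * b * a⁻¹ := (hbi.conj a).inv
      rw [← h6]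
      exact eq_inv_of_mul_eq_one_left h4
    exact hbi.ne (T.inf_eq hL hs hne hb (h5 ▸ conj_mem_cj hb))
  have h1 : b * a * b⁻¹ = a * w := by
    rw [hw, hcomm, hbi.inv, hai.inv]
    calc b * a * b = (a * a) * b * a * b := by rw [hai.sq, one_mul]
      _ = a * (a * b * a * b) := by group
  have hNb := T.cl N hN b
  have h2 : a * w ∈ cj b N := h1 ▸ conj_mem_cj ha
  have h3 : Inv (a * w) := h1 ▸ hai.conj b
  have h4 : a * w ∈ normalizer (N : Set G) := mul_mem (le_normalizer ha) (K_le_M hwK)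
  rcases T.noAdj hI N hN (cj b N) hNb _ h2 h3 h4 with h6 | h6
  · rw [h6] at h2
    have h7 : w ∈ N := by
      have h8 : w = a * (a * w) := by rw [← mul_assoc, hai.sq, one_mul]
      rw [h8]
      exact mul_mem ha h2
    exact hw1 (T.disj hN h7 hwK)
  · have h7 : a * w ∈ centralizer (N : Set G) :=
      mem_cen.mpr fun l hl => (h6 _ h2 l hl).symm
    have h8 : a ∈ centralizer (N : Set G) := by
      have h9 : a = a * w * w⁻¹ := by group
      rw [h9]
      exact mul_mem h7 (inv_mem hwK)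
    exact hai.ne (T.disj hN ha h8)

end Cfsg.Agent.UGT.CaseG.NA.Tight
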